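import Groth.Agent.Rat1.Tropical

/-!
Degenerating a rational curve over a valued field to one through the limit of a marked point.
-/

set_option autoImplicit false

universe u v w

open Polynomial

namespace Groth.Agent.Rat1.Bubble

variable {k : Type u} [Field k] {σ : Type w}

/-- A relation among fractions of polynomials persists in the localization and specialises. -/
theorem transfer {R : Type v} [CommRing R] [Algebra k R] {F₁ F₂ : Type v} [Field F₁] [Field F₂]
    [Algebra k F₁] [Algebra k F₂] (β : R →ₐ[k] F₁) (hβ : Function.Injective β) (γ : R →ₐ[k] F₂)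
    (D : R[X]) (G : σ → R[X]) (hD₁ : D.map β.toRingHom ≠ 0) (hD₂ : D.map γ.toRingHom ≠ 0)
    (P : MvPolynomial σ k)
    (h : MvPolynomial.aeval (fun i => algebraMap F₁[X] (RatFunc F₁) ((G i).map β.toRingHom) /
      algebraMap F₁[X] (RatFunc F₁) (D.map β.toRingHom)) P = 0) :
    MvPolynomial.aeval (fun i => algebraMap F₂[X] (RatFunc F₂) ((G i).map γ.toRingHom) /
      algebraMap F₂[X] (RatFunc F₂) (D.map γ.toRingHom)) P = 0 := by
  let m₁ : R[X] →ₐ[k] RatFunc F₁ := (IsScalarTower.toAlgHom k F₁[X] (RatFunc F₁)).comp (Polynomial.mapAlgHom β)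
  let m₂ : R[X] →ₐ[k] RatFunc F₂ := (IsScalarTower.toAlgHom k F₂[X] (RatFunc F₂)).comp (Polynomial.mapAlgHom γ)
  have u₁ : ∀ y : Submonoid.powers D, IsUnit (m₁ y) := by
    rintro ⟨_, n, rfl⟩
    simp only [map_pow]
    exact (isUnit_iff_ne_zero.2 ((map_ne_zero_iff _ (RatFunc.algebraMap_injective F₁)).2 hD₁)).pow n
  have u₂ : ∀ y : Submonoid.powers D, IsUnit (m₂ y) := by
    rintro ⟨_, n, rfl⟩
    simp only [map_pow]
    exact (isUnit_iff_ne_zero.2 ((map_ne_zero_iff _ (RatFunc.algebraMap_injective F₂)).2 hD₂)).pow n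
  let l₁ : Localization.Away D →ₐ[k] RatFunc F₁ := IsLocalization.liftAlgHom u₁
  let l₂ : Localization.Away D →ₐ[k] RatFunc F₂ := IsLocalization.liftAlgHom u₂
  let d : Submonoid.powers D := ⟨D, Submonoid.mem_powers D⟩
  let q : σ → Localization.Away D := fun i => IsLocalization.mk' _ (G i) d
  have hq₁ : ∀ i, l₁ (q i) = algebraMap F₁[X] (RatFunc F₁) ((G i).map β.toRingHom) /
      algebraMap F₁[X] (RatFunc F₁) (D.map β.toRingHom) := fun i => by
    rw [eq_div_iff ((map_ne_zero_iff _ (RatFunc.algebraMap_injective F₁)).2 hD₁)]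
    calc l₁ (q i) * m₁ D = l₁ (q i) * l₁ (algebraMap _ _ D) := by
          rw [IsLocalization.liftAlgHom_apply, IsLocalization.liftAlgHom_apply, IsLocalization.lift_eq]; rfl
      _ = m₁ (G i) := by
          rw [← map_mul, IsLocalization.mk'_spec _ (G i) d, IsLocalization.liftAlgHom_apply,
            IsLocalization.lift_eq]
          rfl
  have hq₂ : ∀ i, l₂ (q i) = algebraMap F₂[X] (RatFunc F₂) ((G i).map γ.toRingHom) /
      algebraMap F₂[X] (RatFunc F₂) (D.map γ.toRingHom) := fun i => by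
    rw [eq_div_iff ((map_ne_zero_iff _ (RatFunc.algebraMap_injective F₂)).2 hD₂)]
    calc l₂ (q i) * m₂ D = l₂ (q i) * l₂ (algebraMap _ _ D) := by
          rw [IsLocalization.liftAlgHom_apply, IsLocalization.liftAlgHom_apply, IsLocalization.lift_eq]; rfl
      _ = m₂ (G i) := by
          rw [← map_mul, IsLocalization.mk'_spec _ (G i) d, IsLocalization.liftAlgHom_apply,
            IsLocalization.lift_eq]
          rfl
  have inj : Function.Injective l₁ := by
    rw [injective_iff_map_eq_zero]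
    intro z hz
    obtain ⟨⟨a, s⟩, e⟩ := IsLocalization.surj (Submonoid.powers D) z
    have : m₁ a = 0 := by
      have := congrArg l₁ e
      rw [map_mul, hz, zero_mul, IsLocalization.liftAlgHom_apply, IsLocalization.lift_eq] at this
      exact this.symm
    have ha : a = 0 := Polynomial.map_injective _ hβ
      ((RatFunc.algebraMap_injective F₁) (by simpa [m₁] using this))
    rw [show z = IsLocalization.mk' (Localization.Away D) a s from
      (IsLocalization.eq_mk'_iff_mul_eq).2 e, ha, IsLocalization.mk'_zero]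
  have h0 : MvPolynomial.aeval q P = 0 := inj (by
    rw [map_zero, ← AlgHom.comp_apply, MvPolynomial.comp_aeval]
    simpa only [hq₁] using h)
  have := congrArg l₂ h0
  rw [map_zero, ← AlgHom.comp_apply, MvPolynomial.comp_aeval] at this
  simpa only [hq₂] using this

/-- The hypothesis that `G / D` satisfies the relations of `y`. -/
def Rel {F : Type v} [Field F] [Algebra k F] {A : Type u} [CommRing A] [Algebra k A] (y : σ → A)
    (D : F[X]) (G : σ → F[X]) : Prop :=
  ∀ P : MvPolynomial σ k, MvPolynomial.aeval y P = 0 →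
    MvPolynomial.aeval (fun i => algebraMap F[X] (RatFunc F) (G i) / algebraMap F[X] (RatFunc F) D) P = 0

theorem scaleHom_le {F : Type v} [Field F] [Algebra k F] (s : F) (hs : s ≠ 0) :
    nonZeroDivisors F[X] ≤ (nonZeroDivisors (RatFunc F)).comap ((IsScalarTower.toAlgHom k F[X] (RatFunc F)).comp
      ((Polynomial.aeval (R := F) (C s * X : F[X])).restrictScalars k)) := by
  refine nonZeroDivisors_le_comap_nonZeroDivisors_of_injective _ ?_
  rw [injective_iff_map_eq_zero]
  intro q hq
  have h1 : aeval (C s * X : F[X]) q = 0 := (RatFunc.algebraMap_injective F) (by simpa using hq)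
  rw [aeval_def, Polynomial.algebraMap_eq] at h1
  exact (comp_C_mul_X_eq_zero_iff (mem_nonZeroDivisors_of_ne_zero hs)).1 h1

/-- Replacing the variable by a linear substitution. -/
noncomputable def scale {F : Type v} [Field F] [Algebra k F] (s : F) (hs : s ≠ 0) : RatFunc F →ₐ[k] RatFunc F :=
  RatFunc.liftAlgHom ((IsScalarTower.toAlgHom k F[X] (RatFunc F)).comp
    ((Polynomial.aeval (R := F) (C s * X : F[X])).restrictScalars k)) (scaleHom_le s hs)

theorem scale_algebraMap {F : Type v} [Field F] [Algebra k F] (s : F) (hs : s ≠ 0) (q : F[X]) :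
    scale (k := k) s hs (algebraMap F[X] (RatFunc F) q) = algebraMap F[X] (RatFunc F) (q.comp (C s * X)) := by
  have h := RatFunc.liftAlgHom_apply_div (S := k)
    ((IsScalarTower.toAlgHom k F[X] (RatFunc F)).comp
      ((Polynomial.aeval (R := F) (C s * X : F[X])).restrictScalars k)) (scaleHom_le s hs) q 1
  simpa [scale, Polynomial.comp, aeval_def] using h

theorem exists_bubble {L : Type u} [Field L] [IsAlgClosed L] [Algebra k L] (O : ValuationSubring L)
    [Algebra k O] [IsScalarTower k O L] [Finite σ] {A : Type u} [CommRing A] [Algebra k A] (y : σ → A)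
    (Q : L[X]) (H : σ → L[X]) (c : σ → L) (hH : ∀ i, (H i).degree < Q.degree)
    (hQ0 : Q.coeff 0 = 0) (hH0 : ∃ i, (H i).coeff 0 ≠ 0) (hc : ∀ i, O.valuation (c i) < 1)
    (hrel : Rel (k := k) y Q (fun i => C (c i) * Q + H i)) :
    ∃ (D : (IsLocalRing.ResidueField O)[X]) (G : σ → (IsLocalRing.ResidueField O)[X]),
      D ≠ 0 ∧ (∀ i, (G i).degree < D.degree) ∧ (∃ i, G i ≠ 0) ∧ Rel (k := k) y D G := by
  classical
  have hQne : Q ≠ 0 := fun h => by
    obtain ⟨i, hi⟩ := hH0
    have := hH i
    rw [h, degree_zero] at this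
    exact not_lt_bot this
  obtain ⟨s, e, j, hs, he, hA, hB, hj, hjlt, hBlt, i₁, n₁, hi₁⟩ := Tropical.exists_scale O.valuation
    Q.natDegree Q.coeff (fun i n => (H i).coeff n) (by simpa using hQne) hQ0
    (fun n hn => coeff_eq_zero_of_natDegree_lt hn)
    (fun i n hn => coeff_eq_zero_of_degree_lt (lt_of_lt_of_le (hH i)
      (degree_le_natDegree.trans (WithBot.coe_le_coe.2 hn)))) hH0
  let T : L[X] → L[X] := fun q => C e⁻¹ * q.comp (C s * X)
  have hT : ∀ (q : L[X]) n, (T q).coeff n = q.coeff n * s ^ n / e := fun q n => by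
    simp only [T, coeff_C_mul, comp_C_mul_X_coeff]
    ring
  have hlift : ∀ q : L[X], (∀ n, O.valuation (q.coeff n * s ^ n / e) ≤ 1) →
      ∃ q' : O[X], q'.map O.subtype = T q := fun q hq => by
    refine (Polynomial.mem_lifts _).1 ((Polynomial.lifts_iff_coeff_lifts _).2 fun n => ?_)
    rw [hT]
    exact ⟨⟨_, O.valuation_le_one_iff _ |>.1 (hq n)⟩, rfl⟩
  obtain ⟨Q', hQ'⟩ := hlift Q hA
  choose H' hH' using fun i => hlift (H i) (hB i)
  let c' : σ → O := fun i => ⟨c i, O.valuation_le_one_iff _ |>.1 (hc i).le⟩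
  let β : O →ₐ[k] L := IsScalarTower.toAlgHom k O L
  let γ : O →ₐ[k] IsLocalRing.ResidueField O := IsScalarTower.toAlgHom k O _
  have hβ : β.toRingHom = O.subtype := RingHom.ext fun x => rfl
  have hres : ∀ x : O, IsLocalRing.residue O x = 0 ↔ O.valuation (x : L) < 1 := fun x => by
    rw [IsLocalRing.residue_eq_zero_iff]
    exact (O.valuation_lt_one_iff x)
  have hγ : γ.toRingHom = IsLocalRing.residue O := RingHom.ext fun x => rfl
  have hcoe : ∀ (q : L[X]) (q' : O[X]), q'.map O.subtype = T q → ∀ n,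
      ((q'.map (IsLocalRing.residue O)).coeff n = 0 ↔ O.valuation (q.coeff n * s ^ n / e) < 1) :=
    fun q q' h n => by
      rw [coeff_map, hres, ← hT, ← h, coeff_map]
      rfl
  have hc' : ∀ i, IsLocalRing.residue O (c' i) = 0 := fun i => (hres _).2 (hc i)
  let D := Q'.map (IsLocalRing.residue O)
  let G := fun i => (C (c' i) * Q' + H' i).map (IsLocalRing.residue O)
  have hG : ∀ i, G i = (H' i).map (IsLocalRing.residue O) := fun i => by simp [G, hc']
  have hDj : D.coeff j ≠ 0 := fun h => lt_irrefl (1 : _) (hj.symm.le.trans_lt ((hcoe Q Q' hQ' j).1 h))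
  have hD : D ≠ 0 := fun h => hDj (by rw [h, coeff_zero])
  refine ⟨D, G, hD, fun i => ?_, ⟨i₁, fun h => ?_⟩, fun P hP => ?_⟩
  · refine lt_of_lt_of_le ((degree_lt_iff_coeff_zero _ j).2 fun n hn => ?_) (le_degree_of_ne_zero hDj)
    rw [hG]
    exact (hcoe _ _ (hH' i) n).2 (hBlt i n hn)
  · have h' := (hcoe _ _ (hH' i₁) n₁).1 (by rw [← hG, h, coeff_zero])
    rw [hi₁] at h'
    exact lt_irrefl _ h'
  · have hQ1 : Q'.map β.toRingHom ≠ 0 := by
      rw [hβ, hQ']
      intro h
      have := congrArg (fun q => O.valuation (q.coeff j)) h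
      simp only [hT, hj, coeff_zero, map_zero, one_ne_zero] at this
    have key := transfer β (fun a b h => Subtype.ext h) γ Q' (fun i => C (c' i) * Q' + H' i) hQ1
      (by rw [hγ]; exact hD) P (by
      have := congrArg (scale (k := k) s hs) (hrel P hP)
      rw [map_zero, ← AlgHom.comp_apply, MvPolynomial.comp_aeval] at this
      refine Eq.trans ?_ this
      congr 2
      ext i
      rw [map_div₀, scale_algebraMap, scale_algebraMap, hβ]
      simp only [Polynomial.map_add, Polynomial.map_mul, map_C, hQ', hH' i, T, add_comp, mul_comp, C_comp,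
        map_add, map_mul]
      have hC : algebraMap L[X] (RatFunc L) (C e⁻¹) ≠ 0 :=
        (map_ne_zero_iff _ (RatFunc.algebraMap_injective L)).2 (C_ne_zero.2 (inv_ne_zero he))
      rw [show O.subtype (c' i) = c i from rfl]
      rw [show ∀ a b m n : RatFunc L, m * (n * a) + n * b = n * (m * a + b) from fun a b m n => by ring,
        mul_div_mul_left _ _ hC])
    rw [hγ] at key
    exact key

/-- Specialising the coefficients to an algebraically closed ground field. -/
theorem exists_specialization [IsAlgClosed k] [Finite σ] {F : Type u} [Field F] [Algebra k F] {A : Type u}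
    [CommRing A] [Algebra k A] (y : σ → A) (D : F[X]) (G : σ → F[X]) (hD : D ≠ 0)
    (hG : ∀ i, (G i).degree < D.degree) (hne : ∃ i, G i ≠ 0) (hrel : Rel (k := k) y D G) :
    ∃ (D₀ : k[X]) (G₀ : σ → k[X]), D₀ ≠ 0 ∧ (∀ i, (G₀ i).degree < D₀.degree) ∧ (∃ i, G₀ i ≠ 0) ∧
      Rel (k := k) y D₀ G₀ := by
  classical
  obtain ⟨i₁, hi₁⟩ := hne
  let S : Set F := (↑D.coeffs ∪ ⋃ i, ↑(G i).coeffs) ∪ {(D.leadingCoeff * (G i₁).leadingCoeff)⁻¹}
  have hS : S.Finite := ((D.coeffs.finite_toSet.union
    (Set.finite_iUnion fun i => (G i).coeffs.finite_toSet))).union (Set.finite_singleton _)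
  let B := Algebra.adjoin k S
  haveI : Algebra.FiniteType k B :=
    ⟨B.fg_top.2 ((Subalgebra.fg_def).2 ⟨S, hS, rfl⟩)⟩
  obtain ⟨M, hM⟩ := Ideal.exists_maximal B
  letI : Field (B ⧸ M) := Ideal.Quotient.field M
  haveI : Module.Finite k (B ⧸ M) := finite_of_finite_type_of_isJacobsonRing k (B ⧸ M)
  let e : k ≃ₐ[k] B ⧸ M := AlgEquiv.ofBijective (Algebra.ofId k (B ⧸ M))
    IsAlgClosed.algebraMap_bijective_of_isIntegral
  let γ : B →ₐ[k] k := e.symm.toAlgHom.comp (Ideal.Quotient.mkₐ k M)
  have hmem : ∀ q : F[X], (∀ n, q.coeff n ≠ 0 → q.coeff n ∈ S) → ∃ q' : B[X], q'.map B.val.toRingHom = q :=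
    fun q hq => (Polynomial.mem_lifts _).1 ((Polynomial.lifts_iff_coeff_lifts _).2 fun n => by
      by_cases h : q.coeff n = 0
      · exact ⟨0, by rw [h]; rfl⟩
      · exact ⟨⟨_, Algebra.subset_adjoin (hq n h)⟩, rfl⟩)
  obtain ⟨D', hD'⟩ := hmem D fun n hn => .inl (.inl (coeff_mem_coeffs hn))
  choose G' hG' using fun i => hmem (G i) fun n hn =>
    .inl (.inr (Set.mem_iUnion.2 ⟨i, coeff_mem_coeffs hn⟩))
  have hinj : Function.Injective B.val.toRingHom := Subtype.val_injective
  let z : B := ⟨_, Algebra.subset_adjoin (Set.mem_union_right _ (Set.mem_singleton _))⟩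
  have hu : γ (D'.coeff D.natDegree) * γ ((G' i₁).coeff (G i₁).natDegree) * γ z = 1 := by
    rw [← map_mul, ← map_mul, ← map_one γ]
    congr 1
    apply hinj
    rw [map_mul, map_mul, map_one, ← coeff_map, ← coeff_map, hD', hG']
    exact mul_inv_cancel₀ (mul_ne_zero (leadingCoeff_ne_zero.2 hD) (leadingCoeff_ne_zero.2 hi₁))
  have hDn : (D'.map γ.toRingHom).coeff D.natDegree ≠ 0 := by
    rw [coeff_map]
    intro h
    rw [show γ (D'.coeff D.natDegree) = 0 from h, zero_mul, zero_mul] at hu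
    exact zero_ne_one hu
  refine ⟨D'.map γ.toRingHom, fun i => (G' i).map γ.toRingHom, fun h => hDn (by rw [h, coeff_zero]),
    fun i => ?_, ⟨i₁, fun h => ?_⟩, fun P hP => ?_⟩
  · refine lt_of_lt_of_le ((degree_lt_iff_coeff_zero _ _).2 fun n hn => ?_) (le_degree_of_ne_zero hDn)
    have h1 : (G i).coeff n = 0 := coeff_eq_zero_of_degree_lt (lt_of_lt_of_le (hG i)
      (degree_le_natDegree.trans (WithBot.coe_le_coe.2 hn)))
    have h2 : (G' i).coeff n = 0 := hinj (by rw [← coeff_map, hG', h1, map_zero])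
    rw [coeff_map, h2, map_zero]
  · have := congrArg (fun q => q.coeff (G i₁).natDegree) h
    simp only [coeff_map, coeff_zero] at this
    rw [show γ ((G' i₁).coeff (G i₁).natDegree) = 0 from this, mul_zero, zero_mul] at hu
    exact zero_ne_one hu
  · refine transfer B.val hinj γ D' G' (by rw [hD']; exact hD) (fun h => hDn (by rw [h, coeff_zero])) P ?_
    simpa only [hD', hG'] using hrel P hP

/-- Exchanging the origin with infinity. -/
theorem exists_reflect [Finite σ] {A : Type u} [CommRing A] [Algebra k A] (y : σ → A) (D : k[X])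
    (G : σ → k[X]) (hD : D ≠ 0) (hG : ∀ i, (G i).degree < D.degree) (hne : ∃ i, G i ≠ 0) (hrel : Rel (k := k) y D G) :
    ∃ (D₀ : k[X]) (G₀ : σ → k[X]), D₀.coeff 0 ≠ 0 ∧ (∀ i, (G₀ i).coeff 0 = 0) ∧ (∃ i, G₀ i ≠ 0) ∧
      Rel (k := k) y D₀ G₀ := by
  classical
  let n := D.natDegree
  letI : Invertible (RatFunc.X : RatFunc k) := invertibleOfNonzero RatFunc.X_ne_zero
  have hX : ∀ q : k[X], aeval (RatFunc.X : RatFunc k) q = algebraMap k[X] (RatFunc k) q := fun q => by
    rw [← RatFunc.algebraMap_X, aeval_algebraMap_apply, aeval_X_left_apply]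
  have key : ∀ q : k[X], q.natDegree ≤ n →
      aeval (RatFunc.X : RatFunc k)⁻¹ (q.reflect n) * RatFunc.X ^ n = algebraMap k[X] (RatFunc k) q := by
    intro q hq
    have h := eval₂_reflect_mul_pow (algebraMap k (RatFunc k)) (RatFunc.X : RatFunc k) n q hq
    rwa [invOf_eq_inv, ← aeval_def, ← aeval_def, hX] at h
  have key' : ∀ q : k[X], q.natDegree ≤ n →
      aeval (RatFunc.X : RatFunc k)⁻¹ q * RatFunc.X ^ n = algebraMap k[X] (RatFunc k) (q.reflect n) := by
    intro q hq
    have := key (q.reflect n) (natDegree_le_iff_coeff_eq_zero.2 fun m hm => by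
      rw [coeff_reflect, revAt_eq_self_of_lt hm, coeff_eq_zero_of_natDegree_lt (hq.trans_lt hm)])
    rwa [reflect_reflect] at this
  have hGn : ∀ i, (G i).natDegree ≤ n := fun i => natDegree_le_natDegree (hG i).le
  have hinj : Function.Injective (aeval ((RatFunc.X : RatFunc k)⁻¹) : k[X] →ₐ[k] RatFunc k) := by
    rw [injective_iff_map_eq_zero]
    intro q hq
    have := eval₂_reflect_mul_pow (algebraMap k (RatFunc k)) (RatFunc.X : RatFunc k) q.natDegree
      (q.reflect q.natDegree) (natDegree_le_iff_coeff_eq_zero.2 fun m hm => by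
        rw [coeff_reflect, revAt_eq_self_of_lt hm, coeff_eq_zero_of_natDegree_lt hm])
    rw [reflect_reflect, invOf_eq_inv, ← aeval_def, ← aeval_def, hX, hq, zero_mul] at this
    exact reflect_eq_zero_iff.1 ((RatFunc.algebraMap_injective k) (by rw [← this, map_zero]))
  let τ : RatFunc k →ₐ[k] RatFunc k :=
    RatFunc.liftAlgHom (aeval ((RatFunc.X : RatFunc k)⁻¹)) (nonZeroDivisors_le_comap_nonZeroDivisors_of_injective _ hinj)
  refine ⟨D.reflect n, fun i => (G i).reflect n, ?_, fun i => ?_, ?_, fun P hP => ?_⟩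
  · rw [coeff_reflect, revAt_le (Nat.zero_le _), Nat.sub_zero]
    exact leadingCoeff_ne_zero.2 hD
  · rw [coeff_reflect, revAt_le (Nat.zero_le _), Nat.sub_zero]
    exact coeff_eq_zero_of_degree_lt ((hG i).trans_le degree_le_natDegree)
  · obtain ⟨i, hi⟩ := hne
    exact ⟨i, fun h => hi (reflect_eq_zero_iff.1 h)⟩
  · have := congrArg τ (hrel P hP)
    rw [map_zero, ← AlgHom.comp_apply, MvPolynomial.comp_aeval] at this
    refine Eq.trans ?_ this
    congr 2
    ext i
    rw [RatFunc.liftAlgHom_apply_div, ← key' _ (hGn i), ← key' _ le_rfl,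
      mul_div_mul_right _ _ (pow_ne_zero _ RatFunc.X_ne_zero)]

end Groth.Agent.Rat1.Bubble
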