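import Groth.Agent.Rat1.Curve
import Groth.Agent.Csa25.SBStable

/-!
Affine charts `Spec C[X]` of `P¹ ×_k M` and generic points.
-/

set_option autoImplicit false
set_option backward.isDefEq.respectTransparency false
set_option backward.defeqAttrib.useBackward true

universe u

open CategoryTheory CategoryTheory.Limits AlgebraicGeometry TopologicalSpace Polynomial

namespace Groth.Agent.Rat1.Chart

variable (k : Type u) [Field k]

/-- The standard affine line in the projective line. -/
noncomputable def e₀ : Spec (CommRingCat.of k[X]) ⟶ CohB1.ProjSpace 1 k :=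
  Spec.map (RingEquiv.ofBijective (Curves2.ProjLine.ψ₀ k)
    (Curves2.ProjLine.ψ₀_bijective k)).symm.toCommRingCatIso.hom ≫
    (Var76.ProjCoord.isAffineOpen_U k 1 0).fromSpec

instance isOpenImmersion_e₀ : IsOpenImmersion (e₀ k) := by
  unfold e₀; infer_instance

theorem e₀_toSpec :
    e₀ k ≫ CohB1.ProjSpace.toSpec 1 k = Spec.map (CommRingCat.ofHom (algebraMap k k[X])) := by
  rw [e₀, Category.assoc]
  erw [← Var76.BertiniScheme.SpecMap_const (k := k) (Var76.ProjCoord.isAffineOpen_U k 1 0)]
  rw [← Spec.map_comp]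
  congr 1
  refine CommRingCat.hom_ext (RingHom.ext fun a => ?_)
  show (RingEquiv.ofBijective (Curves2.ProjLine.ψ₀ k) (Curves2.ProjLine.ψ₀_bijective k)).symm _ = _
  rw [RingEquiv.symm_apply_eq]
  exact (Curves2.ProjLine.ψ₀_C k a).symm

variable {k} {M : Scheme.{u}} (q : M ⟶ Spec (CommRingCat.of k))

theorem irreducibleSpace_prod [IrreducibleSpace M] :
    IrreducibleSpace ↥(pullback (CohB1.ProjSpace.toSpec 1 k) q) := by
  haveI := Csa25.irreducibleSpace_prod_projSpace q 1
  exact ((Scheme.Hom.homeomorph (pullbackSymmetry q (CohB1.ProjSpace.toSpec 1 k)).hom).irreducibleSpace_iff).1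
    inferInstance

theorem exists_chart {C : Type u} [CommRing C] [Algebra k C] (i : Spec (CommRingCat.of C) ⟶ M)
    [IsOpenImmersion i] (hi : i ≫ q = Spec.map (CommRingCat.ofHom (algebraMap k C))) :
    ∃ j : Spec (CommRingCat.of C[X]) ⟶ pullback (CohB1.ProjSpace.toSpec 1 k) q, IsOpenImmersion j ∧
      j ≫ pullback.fst _ _ = Spec.map (CommRingCat.ofHom (Polynomial.mapRingHom (algebraMap k C))) ≫ e₀ k ∧
      j ≫ pullback.snd _ _ = Spec.map (CommRingCat.ofHom (Polynomial.C : C →+* C[X])) ≫ i ∧
      j ≫ pullback.snd _ _ ≫ q = Spec.map (CommRingCat.ofHom (algebraMap k C[X])) := by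
  letI : Algebra k[X] C[X] := (Polynomial.mapRingHom (algebraMap k C)).toAlgebra
  haveI : IsScalarTower k k[X] C[X] := .of_algebraMap_eq fun a => by
    simp [RingHom.algebraMap_toAlgebra]
  haveI : Algebra.IsPushout k C k[X] C[X] := inferInstance
  have hpb := isPullback_SpecMap_of_isPushout _ _ _ _
    (CommRingCat.isPushout_of_isPushout k C k[X] C[X]).flip
  let m := pullback.map (Spec.map (CommRingCat.ofHom (algebraMap k k[X])))
    (Spec.map (CommRingCat.ofHom (algebraMap k C))) (CohB1.ProjSpace.toSpec 1 k) q (e₀ k) i (𝟙 _)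
    (by rw [Category.comp_id, e₀_toSpec]) (by rw [Category.comp_id, hi])
  haveI : IsOpenImmersion m := MorphismProperty.pullbackMap (P := @IsOpenImmersion) (i₁ := e₀ k) (i₂ := i)
    inferInstance inferInstance (e₀_toSpec k).symm hi.symm
  refine ⟨hpb.isoPullback.hom ≫ m, inferInstance, ?_, ?_, ?_⟩
  · rw [Category.assoc, pullback.lift_fst, ← Category.assoc, hpb.isoPullback_hom_fst]
    rfl
  · rw [Category.assoc, pullback.lift_snd, ← Category.assoc, hpb.isoPullback_hom_snd]
    rfl
  · rw [Category.assoc, ← Category.assoc m, pullback.lift_snd, Category.assoc, hi,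
      ← Category.assoc, hpb.isoPullback_hom_snd, ← Spec.map_comp]
    rfl

theorem image_bot_of_isOpenImmersion {R : Type u} [CommRing R] [IsDomain R] {P : Scheme.{u}}
    [IrreducibleSpace P] (j : Spec (CommRingCat.of R) ⟶ P) [IsOpenImmersion j] :
    j (⟨⊥, Ideal.isPrime_bot⟩ : PrimeSpectrum R) = genericPoint P := by
  haveI : IsDomain (CommRingCat.of R) := ‹IsDomain R›
  exact (congrArg (fun z => j z) (genericPoint_eq_bot_of_affine (CommRingCat.of R)).symm).trans
    (genericPoint_eq_of_isOpenImmersion j)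

/-- A field valued point given by an injective map on a chart sits at the generic point. -/
theorem image_of_injective {R K : Type u} [CommRing R] [IsDomain R] [Field K] {P : Scheme.{u}}
    [IrreducibleSpace P] (j : Spec (CommRingCat.of R) ⟶ P) [IsOpenImmersion j] (γ : R →+* K)
    (hγ : Function.Injective γ) (z : Spec (CommRingCat.of K)) :
    (Spec.map (CommRingCat.ofHom γ) ≫ j) z = genericPoint P := by
  rw [Scheme.Hom.comp_apply, ← image_bot_of_isOpenImmersion j]
  congr 1
  refine PrimeSpectrum.ext ?_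
  show Ideal.comap γ z.asIdeal = ⊥
  rw [(Ideal.eq_bot_or_top z.asIdeal).resolve_right z.isPrime.ne_top, ← RingHom.ker_eq_comap_bot]
  exact (RingHom.injective_iff_ker_eq_bot _).1 hγ

end Groth.Agent.Rat1.Chart
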