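import Mathlib
import Groth.Agent.Var76.Uncountable

/-!
Finitely many coefficients lie in a countable algebraically closed subfield; over an uncountable
field a finitely generated domain has closed points avoiding a given countable subring.
-/

set_option autoImplicit false

universe u

namespace Groth.Agent.Rat1.CountableBase

variable {k : Type u} [Field k]

theorem exists_countable_isAlgClosed [IsAlgClosed k] (T : Set k) (hT : T.Countable) :
    ∃ (K₀ : Type u) (_ : Field K₀) (_ : Algebra K₀ k), IsAlgClosed K₀ ∧ Countable K₀ ∧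
      T ⊆ Set.range (algebraMap K₀ k) := by
  let K₁ := Subfield.closure T
  haveI : Countable K₁ := by
    rw [← Cardinal.mk_le_aleph0_iff]
    refine (Subfield.cardinalMk_closure_le_max T).trans (max_le ?_ le_rfl)
    exact hT.le_aleph0
  refine ⟨algebraicClosure K₁ k, inferInstance, inferInstance,
    IsAlgClosure.isAlgClosed K₁, ?_, fun t ht => ?_⟩
  · have h : Set.Countable {z : k | IsAlgebraic K₁ z} := Algebraic.countable K₁ k
    exact (h.mono fun z hz => (mem_algebraicClosure_iff.1 hz)).to_subtype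
  · exact ⟨algebraMap K₁ _ ⟨t, Subfield.subset_closure ht⟩, rfl⟩

theorem exists_maximal_avoiding [Uncountable k] {A : Type u} [CommRing A] [IsDomain A] [Algebra k A]
    [Algebra.FiniteType k A] (T : Set A) (hT : T.Countable) :
    ∃ m : Ideal A, m.IsMaximal ∧ ∀ a ∈ T, a ≠ 0 → a ∉ m := by
  classical
  by_cases hne : {a ∈ T | a ≠ 0}.Nonempty
  · obtain ⟨f, hf⟩ := (hT.mono fun a (ha : a ∈ T ∧ a ≠ 0) => ha.1).exists_eq_range hne
    obtain ⟨m, hm, h⟩ := Var76.Uncountable.exists_maximal_notMem k A f fun n =>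
      ((hf ▸ Set.mem_range_self n : f n ∈ {a ∈ T | a ≠ 0})).2
    refine ⟨m, hm, fun a ha h0 => ?_⟩
    obtain ⟨n, rfl⟩ : a ∈ Set.range f := hf ▸ ⟨ha, h0⟩
    exact h n
  · obtain ⟨m, hm⟩ := Ideal.exists_maximal A
    exact ⟨m, hm, fun a ha h0 => absurd ⟨a, ha, h0⟩ hne⟩

end Groth.Agent.Rat1.CountableBase
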