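import Groth.Agent.Rat1.Bubble
import Groth.Agent.Curves2.ProjLineField

/-!
A morphism from the projective line out of polynomial data.
-/

set_option autoImplicit false
set_option backward.isDefEq.respectTransparency false
set_option backward.defeqAttrib.useBackward true

universe u w

open CategoryTheory CategoryTheory.Limits AlgebraicGeometry TopologicalSpace Polynomial

namespace Groth.Agent.Rat1.Curve

variable {k : Type u} [Field k]

theorem exists_hom_localization {σ : Type w} {A : Type u} [CommRing A] [Algebra k A] (y : σ → A)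
    (hy : Function.Surjective (MvPolynomial.aeval (R := k) y)) (D : k[X]) (G : σ → k[X]) (hD : D ≠ 0)
    (hrel : Bubble.Rel (k := k) y D G) :
    ∃ ψ : A →ₐ[k] Localization.Away D,
      ∀ i, ψ (y i) * algebraMap _ _ D = algebraMap k[X] (Localization.Away D) (G i) := by
  let m : k[X] →ₐ[k] RatFunc k := IsScalarTower.toAlgHom k k[X] (RatFunc k)
  have u₁ : ∀ z : Submonoid.powers D, IsUnit (m z) := by
    rintro ⟨_, n, rfl⟩
    simp only [map_pow]
    exact (isUnit_iff_ne_zero.2 ((map_ne_zero_iff _ (RatFunc.algebraMap_injective k)).2 hD)).pow n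
  let l : Localization.Away D →ₐ[k] RatFunc k := IsLocalization.liftAlgHom u₁
  have inj : Function.Injective l := by
    rw [injective_iff_map_eq_zero]
    intro z hz
    obtain ⟨⟨a, s⟩, e⟩ := IsLocalization.surj (Submonoid.powers D) z
    have : m a = 0 := by
      have := congrArg l e
      rw [map_mul, hz, zero_mul, IsLocalization.liftAlgHom_apply, IsLocalization.lift_eq] at this
      exact this.symm
    rw [show z = IsLocalization.mk' (Localization.Away D) a s from (IsLocalization.eq_mk'_iff_mul_eq).2 e,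
      (RatFunc.algebraMap_injective k) (this.trans (map_zero _).symm), IsLocalization.mk'_zero]
  let d : Submonoid.powers D := ⟨D, Submonoid.mem_powers D⟩
  let Φ : MvPolynomial σ k →ₐ[k] Localization.Away D :=
    MvPolynomial.aeval fun i => IsLocalization.mk' _ (G i) d
  have hl : ∀ i, l (IsLocalization.mk' _ (G i) d) = algebraMap k[X] (RatFunc k) (G i) / algebraMap k[X] (RatFunc k) D :=
    fun i => by
      rw [eq_div_iff ((map_ne_zero_iff _ (RatFunc.algebraMap_injective k)).2 hD),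
        show algebraMap k[X] (RatFunc k) D = l (algebraMap _ _ D) by
          rw [IsLocalization.liftAlgHom_apply, IsLocalization.lift_eq]; rfl,
        ← map_mul, IsLocalization.mk'_spec _ (G i) d, IsLocalization.liftAlgHom_apply, IsLocalization.lift_eq]
      rfl
  have hker : RingHom.ker (MvPolynomial.aeval (R := k) y) ≤ RingHom.ker Φ := fun P hP => inj (by
    rw [map_zero, ← AlgHom.comp_apply, MvPolynomial.comp_aeval]
    simpa only [hl] using hrel P hP)
  refine ⟨(Ideal.Quotient.liftₐ _ Φ hker).comp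
    (Ideal.quotientKerAlgEquivOfSurjective hy).symm.toAlgHom, fun i => ?_⟩
  have e : (Ideal.quotientKerAlgEquivOfSurjective hy).symm (y i) = Ideal.Quotient.mk _ (MvPolynomial.X i) := by
    rw [AlgEquiv.symm_apply_eq]
    simp
  rw [AlgHom.comp_apply]
  erw [e, Ideal.Quotient.liftₐ_apply, Ideal.Quotient.lift_mk]
  simp [Φ, d]

open Curves2.ProjLine Var76.ProjCoord in
theorem exists_morphism {X : Scheme.{u}} (pX : X ⟶ Spec (CommRingCat.of k)) [IsProper pX]
    {U : X.Opens} (hU : IsAffineOpen U) [Algebra k Γ(X, U)]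
    (hc : Spec.map (CommRingCat.ofHom (algebraMap k Γ(X, U))) = hU.fromSpec ≫ pX)
    (x : X) (ε : Γ(X, U) →ₐ[k] k) (hx : ∀ p : PrimeSpectrum Γ(X, U), p.asIdeal = RingHom.ker ε → hU.fromSpec p = x)
    {σ : Type w} (y : σ → Γ(X, U)) (hy : Function.Surjective (MvPolynomial.aeval (R := k) y)) (hεy : ∀ i, ε (y i) = 0)
    (D : k[X]) (G : σ → k[X]) (hD : D.coeff 0 ≠ 0) (hG : ∀ i, (G i).coeff 0 = 0) (hne : ∃ i, G i ≠ 0)
    (hrel : Bubble.Rel (k := k) y D G) :
    ∃ g : CohB1.ProjSpace 1 k ⟶ X, g ≫ pX = CohB1.ProjSpace.toSpec 1 k ∧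
      (¬ ∃ z : X, Set.range g.base ⊆ {z}) ∧ x ∈ Set.range g.base := by
  have hD0 : D ≠ 0 := fun h => hD (by rw [h, coeff_zero])
  haveI : IsIntegral (CohB1.ProjSpace 1 k) := Curves2.ProjLine.isIntegral k 1
  haveI := Curves2.ProjLine.isLocallyNoetherian k 1
  let P := CohB1.ProjSpace 1 k
  let W : P.Opens := Var76.ProjCoord.U k 1 0
  let d : Γ(P, W) := ψ₀ k D
  let V : P.Opens := P.basicOpen d
  have hV : IsAffineOpen V := (isAffineOpen_U k 1 0).basicOpen d
  haveI := (isAffineOpen_U k 1 0).isLocalization_basicOpen d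
  let e := RingEquiv.ofBijective (ψ₀ k) (ψ₀_bijective k)
  let r : Γ(P, W) →+* Γ(P, V) := algebraMap _ _
  have hu : IsUnit ((r.comp (ψ₀ k)) D) := IsLocalization.map_units (M := Submonoid.powers d) _ ⟨d, 1, pow_one d⟩
  let L : Localization.Away D →+* Γ(P, V) := IsLocalization.Away.lift D hu
  obtain ⟨ψ, hψ⟩ := exists_hom_localization y hy D G hD0 hrel
  let θ : Γ(X, U) →+* Γ(P, V) := L.comp ψ.toRingHom
  let qP := CohB1.ProjSpace.toSpec 1 k
  have hrc : ∀ a : k, r (ψ₀ k (Polynomial.C a)) = Var76.BertiniScheme.const (k := k) P V a := fun a => by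
    rw [ψ₀_C]
    simp only [r, RingHom.algebraMap_toAlgebra, Var76.BertiniScheme.const, CommRingCat.hom_comp, RingHom.comp_apply]
    erw [← CommRingCat.comp_apply, Scheme.Hom.appLE_map]
  have hθc : θ.comp (algebraMap k Γ(X, U)) = Var76.BertiniScheme.const (k := k) P V := RingHom.ext fun a => by
    show L (ψ (algebraMap k Γ(X, U) a)) = _
    rw [ψ.commutes, IsScalarTower.algebraMap_apply k k[X] (Localization.Away D)]
    exact (IsLocalization.Away.lift_eq D hu _).trans (hrc a)
  let g₀ : V.toScheme ⟶ X := hV.isoSpec.hom ≫ Spec.map (CommRingCat.ofHom θ) ≫ hU.fromSpec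
  have hg₀ : g₀ ≫ pX = V.ι ≫ qP := by
    simp only [g₀, Category.assoc]
    rw [← hc, ← Spec.map_comp, ← CommRingCat.ofHom_comp, hθc, Var76.BertiniScheme.SpecMap_const hV,
      ← hV.isoSpec_hom_fromSpec, Category.assoc]
    rfl
  -- the origin
  let π₀ : k[X] →+* k := evalRingHom 0
  have hu₀ : IsUnit ((π₀.comp e.symm.toRingHom) d) := by
    show IsUnit (π₀ (e.symm (e D)))
    rw [e.symm_apply_apply]
    simpa [π₀, ← coeff_zero_eq_eval_zero] using isUnit_iff_ne_zero.2 hD
  let π : Γ(P, V) →+* k := IsLocalization.Away.lift d hu₀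
  have hπr : ∀ q : k[X], π (r (ψ₀ k q)) = q.coeff 0 := fun q => by
    rw [coeff_zero_eq_eval_zero]
    refine (IsLocalization.Away.lift_eq d hu₀ _).trans ?_
    show π₀ (e.symm (e q)) = _
    rw [e.symm_apply_apply]
    rfl
  have hLr : ∀ q : k[X], L (algebraMap _ _ q) = r (ψ₀ k q) := fun q => IsLocalization.Away.lift_eq D hu q
  have hθy : ∀ i, θ (y i) * r (ψ₀ k D) = r (ψ₀ k (G i)) := fun i => by
    rw [← hLr, ← hLr, ← hψ, map_mul]
    rfl
  have hπθ : π.comp θ = ε.toRingHom := by
    have h1 : ∀ i, π (θ (y i)) = 0 := fun i => by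
      have := congrArg π (hθy i)
      rw [map_mul, hπr, hπr, hG] at this
      exact (mul_eq_zero.1 this).resolve_right hD
    let πθ : Γ(X, U) →ₐ[k] k :=
      { π.comp θ with
        commutes' := fun a => by
          show π ((θ.comp (algebraMap k Γ(X, U))) a) = a
          rw [hθc, ← hrc, hπr, coeff_C_zero] }
    have h2 : πθ.comp (MvPolynomial.aeval y) = ε.comp (MvPolynomial.aeval y) :=
      MvPolynomial.algHom_ext fun i => by simp [πθ, h1, hεy]
    refine RingHom.ext fun a => ?_
    obtain ⟨q, rfl⟩ := hy a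
    exact AlgHom.congr_fun h2 q
  haveI : IsDomain Γ(P, W) := isDomain_chart k 1 0
  have hd0 : d ≠ 0 := fun h => hD0 ((ψ₀_bijective k).1 (h.trans (map_zero _).symm))
  haveI : IsDomain Γ(P, V) := IsLocalization.isDomain_of_le_nonZeroDivisors (R := Γ(P, W)) Γ(P, V)
    (M := Submonoid.powers d) (powers_le_nonZeroDivisors_of_noZeroDivisors hd0)
  let z₀ : PrimeSpectrum Γ(P, V) := ⟨RingHom.ker π, RingHom.ker_isPrime π⟩
  let zη : PrimeSpectrum Γ(P, V) := ⟨⊥, Ideal.isPrime_bot⟩
  have hval : ∀ z : PrimeSpectrum Γ(P, V), g₀ (hV.isoSpec.inv z) = hU.fromSpec (PrimeSpectrum.comap θ z) := fun z => by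
    simp only [g₀, Scheme.Hom.comp_apply]
    rw [← Scheme.Hom.comp_apply hV.isoSpec.inv, Iso.inv_hom_id]
    rfl
  have h0 : g₀ (hV.isoSpec.inv z₀) = x := by
    rw [hval]
    refine hx _ ?_
    show Ideal.comap θ (RingHom.ker π) = RingHom.ker ε
    rw [RingHom.comap_ker, hπθ]
    rfl
  have hη : g₀ (hV.isoSpec.inv zη) ≠ x := by
    intro h
    have h' : PrimeSpectrum.comap θ zη = PrimeSpectrum.comap θ z₀ := by
      apply hU.fromSpec.isOpenEmbedding.injective
      rw [← hval, ← hval, h0, h]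
    obtain ⟨i, hi⟩ := hne
    have hmem : y i ∈ (PrimeSpectrum.comap θ z₀).asIdeal := by
      show π (θ (y i)) = 0
      exact (RingHom.congr_fun hπθ (y i)).trans (hεy i)
    rw [← h'] at hmem
    have hz : θ (y i) = 0 := hmem
    have := hθy i
    rw [hz, zero_mul] at this
    have hinj : Function.Injective r :=
      IsLocalization.injective (M := Submonoid.powers d) Γ(P, V) (powers_le_nonZeroDivisors_of_noZeroDivisors hd0)
    exact hi ((ψ₀_bijective k).1 (hinj (by rw [map_zero, map_zero, this])))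
  haveI : Nonempty V := ⟨hV.isoSpec.inv z₀⟩
  obtain ⟨g, hg, hgV⟩ := Curves2.exists_extension_of_valuationRing pX qP (valuationRing_stalk k) V g₀ hg₀
  have hgv : ∀ z, g (V.ι (hV.isoSpec.inv z)) = g₀ (hV.isoSpec.inv z) := fun z => by
    rw [← Scheme.Hom.comp_apply, hgV]
  refine ⟨g, hg, ?_, ⟨_, (hgv z₀).trans h0⟩⟩
  rintro ⟨z, hz⟩
  have e1 := hz ⟨V.ι (hV.isoSpec.inv z₀), rfl⟩
  have e2 := hz ⟨V.ι (hV.isoSpec.inv zη), rfl⟩
  simp only [Set.mem_singleton_iff] at e1 e2
  exact hη (by rw [← h0, ← hgv, ← hgv, e1, e2])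

end Groth.Agent.Rat1.Curve
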