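import Groth.Agent.Rat1.NotExtend
import Groth.Agent.Curves2.CurveEmbed
import Groth.Agent.Curves2.CurveSmooth
import Groth.Agent.Curves2.OpenIso

/-!
A family of maps from a curve fixing a point produces a rational curve through that point.
-/

set_option autoImplicit false
set_option backward.isDefEq.respectTransparency false
set_option backward.defeqAttrib.useBackward true
set_option linter.style.haveILetI false

universe u

open CategoryTheory CategoryTheory.Limits AlgebraicGeometry TopologicalSpace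

namespace Groth.Agent.Rat1.FamilyFixedPoint

variable {k : Type u} [Field k] [IsAlgClosed k]

omit [IsAlgClosed k] in
/-- A morphism from a proper integral scheme into an affine open is constant. -/
theorem apply_eq_of_mem_affine {Y X : Scheme.{u}} (pY : Y ⟶ Spec (CommRingCat.of k)) [IsIntegral Y]
    [UniversallyClosed pY] (h : Y ⟶ X) (W : X.Opens) (hW : IsAffineOpen W) (hh : ∀ y, h y ∈ W) (y y' : Y) :
    h y = h y' := by
  let h' : Y ⟶ (W : Scheme.{u}) := IsOpenImmersion.lift W.ι h (by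
    rw [Scheme.Opens.range_ι]; rintro _ ⟨a, rfl⟩; exact hh a)
  haveI : IsAffine (W : Scheme.{u}) := hW
  have hf := isField_of_universallyClosed k pY
  letI := hf.toField
  have e : ∀ a : Y, h a = W.ι (W.toScheme.isoSpec.inv (Spec.map h'.appTop (Y.toSpecΓ a))) := fun a => by
    rw [← Scheme.Hom.comp_apply Y.toSpecΓ, ← Scheme.toSpecΓ_naturality, ← Scheme.Hom.comp_apply,
      ← Scheme.Hom.comp_apply, ← Scheme.isoSpec_hom, Category.assoc, Iso.hom_inv_id_assoc,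
      IsOpenImmersion.lift_fac]
  rw [e y, e y', Subsingleton.elim (α := PrimeSpectrum Γ(Y, ⊤)) (Y.toSpecΓ y) (Y.toSpecΓ y')]

omit [IsAlgClosed k] in
theorem mem_range_section {C Y S : Scheme.{u}} {pC : C ⟶ Spec (CommRingCat.of k)}
    {pY : Y ⟶ Spec (CommRingCat.of k)} {p₁ : S ⟶ C} {p₂ : S ⟶ Y} (hP : IsPullback p₁ p₂ pC pY)
    (c : Spec (CommRingCat.of k) ⟶ C) (hc : c ≫ pC = 𝟙 _) (s : Y ⟶ S) (h₁ : s ≫ p₁ = pY ≫ c) (h₂ : s ≫ p₂ = 𝟙 Y)
    (x : S) (hx : p₁ x ∈ Set.range c) : x = s (p₂ x) := by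
  have hsq : IsPullback s pY p₁ c :=
    IsPullback.of_right (by rw [h₂, hc]; exact IsPullback.of_horiz_isIso ⟨by simp⟩) h₁ hP.flip
  obtain ⟨o, ho⟩ := hx
  obtain ⟨y, hy, -⟩ := Scheme.exists_preimage_of_isPullback hsq x o ho.symm
  have : p₂ x = y := by rw [← hy, ← Scheme.Hom.comp_apply, h₂]; rfl
  rw [this, hy]

/-- A smooth complete curve birational to a given curve. -/
theorem exists_smooth_model [CharZero k] {B : Scheme.{u}} (pB : B ⟶ Spec (CommRingCat.of k)) [IsIntegral B]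
    [IsSeparated pB] [LocallyOfFiniteType pB] [QuasiCompact pB] (hdim : topologicalKrullDim B = 1) :
    ∃ (Y : Scheme.{u}) (_ : IsIntegral Y) (pY : Y ⟶ Spec (CommRingCat.of k)) (U : B.Opens) (V : Y.Opens)
      (e : U.toScheme ≅ V.toScheme), IsProper pY ∧ Smooth pY ∧ topologicalKrullDim Y = 1 ∧
        genericPoint B ∈ U ∧ e.hom ≫ V.ι ≫ pY = U.ι ≫ pB := by
  letI : B.Over (Spec (CommRingCat.of k)) := ⟨pB⟩
  haveI : IsSeparated (B ↘ Spec (CommRingCat.of k)) := ‹IsSeparated pB›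
  haveI : LocallyOfFiniteType (B ↘ Spec (CommRingCat.of k)) := ‹LocallyOfFiniteType pB›
  haveI : QuasiCompact (B ↘ Spec (CommRingCat.of k)) := ‹QuasiCompact pB›
  letI : Algebra k B.functionField := (Var76.VarDim.constField k B).toAlgebra
  obtain ⟨htr, t, ht⟩ := Curves2.ProjModel.exists_finite_adjoin k B hdim
  obtain ⟨Y, hint, sY, hproj, hvY, hdY, σ, hσ⟩ := Curves2.ProjModel.exists_model k B.functionField t htr
  haveI : IsProper sY := NotExtend.isProper_of_projective sY hproj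
  obtain ⟨U, V, e, hgU, he⟩ := Curves2.exists_open_iso_of_functionField pB sY σ
    (hσ.trans (Curves2.spec_constField k B))
  exact ⟨Y, hint, sY, U, V, e, inferInstance, Curves2.smooth_of_valuationRing sY hdY hvY, hdY, hgU, he⟩

theorem exists_curve_of_family [CharZero k] {X C B S₀ : Scheme.{u}} (pX : X ⟶ Spec (CommRingCat.of k))
    (pC : C ⟶ Spec (CommRingCat.of k)) (pB : B ⟶ Spec (CommRingCat.of k)) [IsProper pX]
    [IsIntegral C] [IsProper pC] [Smooth pC] (hC : topologicalKrullDim C = 1)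
    [IsIntegral B] [IsSeparated pB] [LocallyOfFiniteType pB] [QuasiCompact pB] (hB : topologicalKrullDim B = 1)
    (q₁ : S₀ ⟶ C) (q₂ : S₀ ⟶ B) (hQ : IsPullback q₁ q₂ pC pB) (F : S₀ ⟶ X) (hF : F ≫ pX = q₁ ≫ pC)
    (c₀ : Spec (CommRingCat.of k) ⟶ C) (hc₀ : c₀ ≫ pC = 𝟙 _)
    (p : Spec (CommRingCat.of k) ⟶ X) (hp : p ≫ pX = 𝟙 _)
    (hfix : ∀ s : B ⟶ S₀, s ≫ q₁ = pB ≫ c₀ → s ≫ q₂ = 𝟙 B → s ≫ F = pB ≫ p)
    (hvar : ∀ G : C ⟶ X, G ≫ pX = pC → F ≠ q₁ ≫ G) :
    ∃ g : CohB1.ProjSpace 1 k ⟶ X, g ≫ pX = CohB1.ProjSpace.toSpec 1 k ∧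
      (¬ ∃ x : X, Set.range g.base ⊆ {x}) ∧ ∃ t : Spec (CommRingCat.of k) ⟶ CohB1.ProjSpace 1 k,
        t ≫ CohB1.ProjSpace.toSpec 1 k = 𝟙 _ ∧ t ≫ g = p := by
  haveI := GraphClosure.isSeparated_scheme pX
  obtain ⟨Y, _, pY, U, V, e, _, _, hdY, hgU, he⟩ := exists_smooth_model pB hB
  let S := pullback pC pY
  let p₁ : S ⟶ C := pullback.fst pC pY
  let p₂ : S ⟶ Y := pullback.snd pC pY
  have hP : IsPullback p₁ p₂ pC pY := IsPullback.of_hasPullback pC pY
  haveI : IsIntegral S := S1582.result k C Y pC pY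
  haveI : IsIntegral S₀ := by
    haveI : IsIntegral (pullback pC pB) := S1582.result k C B pC pB
    haveI : Nonempty S₀ := ⟨hQ.isoPullback.inv (Classical.arbitrary _)⟩
    exact isIntegral_of_isOpenImmersion hQ.isoPullback.hom
  -- the rational map on the complete surface
  let US : S.Opens := p₂ ⁻¹ᵁ V
  have hw : (US.ι ≫ p₁) ≫ pC = ((p₂ ∣_ V) ≫ e.inv ≫ U.ι) ≫ pB := by
    have h1 : e.inv ≫ U.ι ≫ pB = V.ι ≫ pY := by rw [← he, Iso.inv_hom_id_assoc]
    simp only [Category.assoc]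
    rw [h1, morphismRestrict_ι_assoc, hP.w]
  let ν : (US : Scheme.{u}) ⟶ S₀ := hQ.lift (US.ι ≫ p₁) ((p₂ ∣_ V) ≫ e.inv ≫ U.ι) hw
  let φ : (US : Scheme.{u}) ⟶ X := ν ≫ F
  have hφ : φ ≫ pX = US.ι ≫ p₁ ≫ pC := by simp [φ, ν, hF]
  let sec : (c : Spec (CommRingCat.of k) ⟶ C) → (hc : c ≫ pC = 𝟙 _) → (Y ⟶ S) := fun c hc =>
    pullback.lift (pY ≫ c) (𝟙 Y) (by rw [Category.assoc, hc, Category.comp_id, Category.id_comp])
  have hsec₁ : ∀ c hc, sec c hc ≫ p₁ = pY ≫ c := fun c hc => pullback.lift_fst _ _ _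
  have hsec₂ : ∀ c hc, sec c hc ≫ p₂ = 𝟙 Y := fun c hc => pullback.lift_snd _ _ _
  let sec₀ : (c : Spec (CommRingCat.of k) ⟶ C) → (hc : c ≫ pC = 𝟙 _) → (B ⟶ S₀) := fun c hc =>
    hQ.lift (pB ≫ c) (𝟙 B) (by rw [Category.assoc, hc, Category.comp_id, Category.id_comp])
  have hV : ∃ η : Y, η ∈ V := ⟨_, (e.hom ⟨_, hgU⟩).2⟩
  haveI : Nonempty V := let ⟨η, hη⟩ := hV; ⟨⟨η, hη⟩⟩
  have hslice : ∀ c hc, ∃ σ : (V : Scheme.{u}) ⟶ (US : Scheme.{u}), σ ≫ US.ι = V.ι ≫ sec c hc ∧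
      σ ≫ φ = e.inv ≫ U.ι ≫ sec₀ c hc ≫ F := by
    intro c hc
    have hm : ∀ v, (V.ι ≫ sec c hc) v ∈ US := fun v => by
      show p₂ (sec c hc (V.ι v)) ∈ V
      rw [← Scheme.Hom.comp_apply, hsec₂ c hc]
      exact v.2
    let σ := IsOpenImmersion.lift US.ι (V.ι ≫ sec c hc) (by
      rw [Scheme.Opens.range_ι]; rintro _ ⟨a, rfl⟩; exact hm a)
    have hσ : σ ≫ US.ι = V.ι ≫ sec c hc := IsOpenImmersion.lift_fac _ _ _
    have hσp : σ ≫ (p₂ ∣_ V) = 𝟙 _ := by
      rw [← cancel_mono V.ι, Category.assoc, morphismRestrict_ι, reassoc_of% hσ, hsec₂ c hc, Category.comp_id,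
        Category.id_comp]
    refine ⟨σ, hσ, ?_⟩
    simp only [φ, ← Category.assoc]
    congr 1
    apply hQ.hom_ext
    · simp only [ν, sec₀, Category.assoc, IsPullback.lift_fst]
      rw [reassoc_of% hσ, hsec₁ c hc, ← reassoc_of% he, Iso.inv_hom_id_assoc]
    · simp only [ν, sec₀, Category.assoc, IsPullback.lift_snd, Category.comp_id]
      rw [reassoc_of% hσp]
  obtain ⟨σ₀, hσ₀, hσ₀φ⟩ := hslice c₀ hc₀
  have hσ₀p : σ₀ ≫ φ = V.ι ≫ pY ≫ p := by
    rw [hσ₀φ, hfix (sec₀ c₀ hc₀) (hQ.lift_fst _ _ _) (hQ.lift_snd _ _ _),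
      show e.inv ≫ U.ι ≫ pB ≫ p = (e.inv ≫ U.ι ≫ pB) ≫ p by simp only [Category.assoc], ← he,
      Iso.inv_hom_id_assoc, Category.assoc]
  haveI : Nonempty US := ⟨σ₀ ⟨genericPoint Y, by
    obtain ⟨η, hη⟩ := hV
    exact (genericPoint_specializes η).mem_open V.2 hη⟩⟩
  have hUd : Dense (US : Set S) := US.2.dense ⟨_, (Classical.arbitrary US).2⟩
  let f := Scheme.PartialMap.toRationalMap (⟨US, hUd, φ⟩ : S.PartialMap X)
  have hp0 : ∀ o, p o = p (IsLocalRing.closedPoint k) := fun o => congrArg p (Subsingleton.elim _ _)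
  let x₀ := p (IsLocalRing.closedPoint k)
  have hx₀ : IsClosed ({x₀} : Set X) := by
    haveI := isClosedImmersion_of_comp_eq_id _ _ hp
    convert p.isClosedEmbedding.isClosed_range using 1
    ext a
    constructor
    · rintro rfl; exact ⟨_, rfl⟩
    · rintro ⟨o, rfl⟩; exact hp0 o
  haveI : IsProper (p₁ ≫ pC) := inferInstance
  haveI : JacobsonSpace S := LocallyOfFiniteType.jacobsonSpace (p₁ ≫ pC)
  haveI : JacobsonSpace Y := LocallyOfFiniteType.jacobsonSpace pY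
  haveI : IsClosedImmersion (sec c₀ hc₀ ≫ p₂) := by rw [hsec₂ c₀ hc₀]; infer_instance
  haveI : IsClosedImmersion (sec c₀ hc₀) := IsClosedImmersion.of_comp (sec c₀ hc₀) p₂
  by_cases hcase : ∃ y : Y, sec c₀ hc₀ y ∉ f.domain
  · -- an indeterminacy point on the fixed section
    obtain ⟨y₁, hy₁⟩ := hcase
    obtain ⟨y, hy, hyc⟩ := nonempty_inter_closedPoints (X := Y) ⟨y₁, hy₁⟩
      (f.domain.2.isClosed_compl.preimage (sec c₀ hc₀).continuous).isLocallyClosed
    have hz : IsClosed ({sec c₀ hc₀ y} : Set S) := by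
      simpa using (sec c₀ hc₀).isClosedEmbedding.isClosedMap _ hyc
    obtain ⟨η, hη⟩ := hV
    let v : ↥(V : Scheme.{u}) := ⟨genericPoint Y, (genericPoint_specializes η).mem_open V.2 hη⟩
    have hspec : US.ι (σ₀ v) ⤳ sec c₀ hc₀ y := by
      rw [← Scheme.Hom.comp_apply, hσ₀]
      exact (genericPoint_specializes y).map (sec c₀ hc₀).continuous
    have hval : φ (σ₀ v) = x₀ := by
      rw [← Scheme.Hom.comp_apply, hσ₀p]
      exact hp0 _
    obtain ⟨g, hg, hnc, hxg⟩ := NotExtend.exists_curve_through_limit pC pY p₁ p₂ hP pX hC.le hdY.le US hUd φ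
      hφ _ hz hy (σ₀ v) x₀ hval hx₀ hspec
    haveI : IsProper (CohB1.ProjSpace.toSpec 1 k) := Curves2.ProjLine.isProper_toSpec k 1
    haveI : JacobsonSpace (CohB1.ProjSpace 1 k) := LocallyOfFiniteType.jacobsonSpace (CohB1.ProjSpace.toSpec 1 k)
    obtain ⟨a, ha, hac⟩ := nonempty_inter_closedPoints (X := CohB1.ProjSpace 1 k)
      (show (g.base ⁻¹' {x₀}).Nonempty from hxg) (hx₀.preimage g.continuous).isLocallyClosed
    refine ⟨g, hg, hnc, pointOfClosedPoint _ a hac, pointOfClosedPoint_comp _ a hac, ?_⟩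
    refine ext_of_apply_closedPoint_eq pX (by rw [Category.assoc, hg, pointOfClosedPoint_comp]) hp ?_
    rw [Scheme.Hom.comp_apply, pointOfClosedPoint_apply]
    exact ha
  · -- the fixed section avoids indeterminacy: rigidity
    exfalso
    push Not at hcase
    let D : S.Opens := f.domain
    let ψ : (D : Scheme.{u}) ⟶ X := f.toPartialMap.hom
    have hUSD : US ≤ D := Scheme.PartialMap.le_domain_toRationalMap (⟨US, hUd, φ⟩ : S.PartialMap X)
    have hψ : S.homOfLE hUSD ≫ ψ = φ :=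
      Scheme.PartialMap.toPartialMap_toRationalMap_restrict (⟨US, hUd, φ⟩ : S.PartialMap X)
    haveI : Nonempty D := ⟨S.homOfLE hUSD (Classical.arbitrary US)⟩
    haveI : IsIntegral (D : Scheme.{u}) := inferInstance
    haveI hdomι : IsDominant (S.homOfLE hUSD) := ⟨by
      refine (S.homOfLE hUSD).isOpenEmbedding.isOpen_range.dense ?_
      exact Set.range_nonempty _⟩
    have hψc : ψ ≫ pX = D.ι ≫ p₁ ≫ pC := by
      refine ext_of_isDominant (S.homOfLE hUSD) ?_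
      rw [reassoc_of% hψ, hφ, Scheme.homOfLE_ι_assoc]
    have hslice' : ∀ c hc (hm : ∀ y, sec c hc y ∈ D), ∀ v : ↥(V : Scheme.{u}),
        ψ ⟨sec c hc v.1, hm v.1⟩ = F (sec₀ c hc (U.ι (e.inv v))) := by
      intro c hc hm v
      obtain ⟨σ, hσ, hσφ⟩ := hslice c hc
      have h1 : S.homOfLE hUSD (σ v) = ⟨sec c hc v.1, hm v.1⟩ := by
        apply D.ι.isOpenEmbedding.injective
        rw [← Scheme.Hom.comp_apply, Scheme.homOfLE_ι, ← Scheme.Hom.comp_apply, hσ]
        rfl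
      rw [← h1, ← Scheme.Hom.comp_apply, hψ, ← Scheme.Hom.comp_apply, hσφ]
      rfl
    -- the affine neighbourhood and the tube
    obtain ⟨W, hW, hxW, -⟩ := exists_isAffineOpen_mem_and_subset (U := (⊤ : X.Opens)) (x := x₀) trivial
    let D' : S.Opens := D.ι ''ᵁ (ψ ⁻¹ᵁ W)
    have hconst : ∀ y, ψ ⟨sec c₀ hc₀ y, hcase y⟩ = x₀ := by
      let s' : Y ⟶ (D : Scheme.{u}) := IsOpenImmersion.lift D.ι (sec c₀ hc₀) (by
        rw [Scheme.Opens.range_ι]; rintro _ ⟨a, rfl⟩; exact hcase a)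
      have hs' : s' ≫ D.ι = sec c₀ hc₀ := IsOpenImmersion.lift_fac _ _ _
      haveI : IsDominant V.ι := ⟨by
        rw [DenseRange, Scheme.Opens.range_ι]
        obtain ⟨η, hη⟩ := hV
        exact V.2.dense ⟨η, hη⟩⟩
      have heq : s' ≫ ψ = pY ≫ p := by
        refine ext_of_isDominant V.ι ?_
        have h2 : σ₀ ≫ S.homOfLE hUSD = V.ι ≫ s' := by
          rw [← cancel_mono D.ι, Category.assoc, Scheme.homOfLE_ι, hσ₀, Category.assoc, hs']
        rw [← reassoc_of% h2, hψ, hσ₀p]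
      intro y
      have h3 : (⟨sec c₀ hc₀ y, hcase y⟩ : ↥(D : Scheme.{u})) = s' y := by
        apply D.ι.isOpenEmbedding.injective
        rw [← Scheme.Hom.comp_apply, hs']
        rfl
      rw [h3, ← Scheme.Hom.comp_apply, heq]
      exact hp0 _
    have hT : IsClosed (p₁ '' (D' : Set S)ᶜ) := p₁.isClosedMap _ D'.2.isClosed_compl
    let C' : C.Opens := ⟨(p₁ '' (D' : Set S)ᶜ)ᶜ, hT.isOpen_compl⟩
    have hC' : c₀ (IsLocalRing.closedPoint k) ∈ C' := by
      rintro ⟨x, hx, hxc⟩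
      have := mem_range_section hP c₀ hc₀ (sec c₀ hc₀) (hsec₁ c₀ hc₀) (hsec₂ c₀ hc₀) x ⟨_, hxc.symm⟩
      refine hx ?_
      rw [this]
      refine ⟨⟨sec c₀ hc₀ (p₂ x), hcase _⟩, ?_, rfl⟩
      show ψ _ ∈ W
      rw [hconst]
      exact hxW
    have hrigid : ∀ c hc, c (IsLocalRing.closedPoint k) ∈ C' →
        ∀ b b' : B, b ∈ U → b' ∈ U → F (sec₀ c hc b) = F (sec₀ c hc b') := by
      intro c hc hcC b b' hb hb'
      have hm : ∀ y, sec c hc y ∈ D' := fun y => by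
        by_contra h
        refine hcC ⟨_, h, ?_⟩
        rw [← Scheme.Hom.comp_apply, hsec₁ c hc]
        exact congrArg c (Subsingleton.elim _ _)
      have hmD : ∀ y, sec c hc y ∈ D := fun y => by
        obtain ⟨a, -, ha⟩ := hm y
        exact ha ▸ a.2
      let s' : Y ⟶ (D : Scheme.{u}) := IsOpenImmersion.lift D.ι (sec c hc) (by
        rw [Scheme.Opens.range_ι]; rintro _ ⟨a, rfl⟩; exact hmD a)
      have hs'' : ∀ y, s' y = (⟨sec c hc y, hmD y⟩ : ↥(D : Scheme.{u})) := fun y => by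
        apply D.ι.isOpenEmbedding.injective
        rw [← Scheme.Hom.comp_apply, IsOpenImmersion.lift_fac]
        rfl
      have hsW : ∀ y, (s' ≫ ψ) y ∈ W := fun y => by
        obtain ⟨a, ha, ha'⟩ := hm y
        rw [Scheme.Hom.comp_apply, hs'', show (⟨sec c hc y, hmD y⟩ : ↥(D : Scheme.{u})) = a from
          D.ι.isOpenEmbedding.injective ha'.symm]
        exact ha
      have key : ∀ b (hb : b ∈ U), F (sec₀ c hc b) = (s' ≫ ψ) (V.ι (e.hom ⟨b, hb⟩)) := fun b hb => by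
        rw [Scheme.Hom.comp_apply, hs'']
        refine Eq.trans ?_ (hslice' c hc hmD (e.hom ⟨b, hb⟩)).symm
        rw [← Scheme.Hom.comp_apply e.hom, Iso.hom_inv_id]
        rfl
      rw [key b hb, key b' hb']
      exact apply_eq_of_mem_affine pY (s' ≫ ψ) W hW hsW _ _
    -- the family does not vary
    haveI : JacobsonSpace B := LocallyOfFiniteType.jacobsonSpace pB
    obtain ⟨b₁, hb₁, hb₁c⟩ := nonempty_inter_closedPoints (X := B) (show (U : Set B).Nonempty from ⟨_, hgU⟩)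
      U.2.isLocallyClosed
    let β := pointOfClosedPoint pB b₁ hb₁c
    let τ : C ⟶ S₀ := hQ.lift (𝟙 C) (pC ≫ β) (by
      rw [Category.assoc, pointOfClosedPoint_comp, Category.id_comp, Category.comp_id])
    let G : C ⟶ X := τ ≫ F
    have hG : G ≫ pX = pC := by simp [G, τ, hF]
    refine hvar G hG ?_
    haveI : LocallyOfFiniteType q₁ := MorphismProperty.of_isPullback hQ.flip ‹LocallyOfFiniteType pB›
    haveI : LocallyOfFiniteType (F ≫ pX) := hF ▸ inferInstance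
    let O : S₀.Opens := q₁ ⁻¹ᵁ C' ⊓ q₂ ⁻¹ᵁ U
    have hO : (O : Set S₀).Nonempty := by
      refine ⟨sec₀ c₀ hc₀ b₁, ?_, ?_⟩
      · show q₁ (sec₀ c₀ hc₀ b₁) ∈ C'
        rw [← Scheme.Hom.comp_apply, hQ.lift_fst, Scheme.Hom.comp_apply]
        convert hC'
        exact Subsingleton.elim _ _
      · show q₂ (sec₀ c₀ hc₀ b₁) ∈ U
        rw [← Scheme.Hom.comp_apply, hQ.lift_snd]
        exact hb₁
    refine ext_of_apply_eq pX (O : Set S₀) O.2.isLocallyClosed (O.2.dense hO) (fun x hx hxc => ?_)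
      (by rw [Category.assoc, hG, hF])
    haveI : LocallyOfFiniteType (q₁ ≫ pC) := inferInstance
    haveI : JacobsonSpace C := LocallyOfFiniteType.jacobsonSpace pC
    have hcc : IsClosed ({q₁ x} : Set C) := q₁.closePoints_subset_preimage_closedPoints hxc
    let c := pointOfClosedPoint pC (q₁ x) hcc
    have hc : c ≫ pC = 𝟙 _ := pointOfClosedPoint_comp _ _ _
    have hcC : c (IsLocalRing.closedPoint k) ∈ C' := by
      rw [pointOfClosedPoint_apply]; exact hx.1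
    have hxr : x = sec₀ c hc (q₂ x) := mem_range_section hQ c hc (sec₀ c hc) (hQ.lift_fst _ _ _) (hQ.lift_snd _ _ _) x
      ⟨IsLocalRing.closedPoint k, pointOfClosedPoint_apply _ _ _ _⟩
    have hτ : τ (q₁ x) = sec₀ c hc b₁ := by
      have h1 : q₁ (τ (q₁ x)) = q₁ x := by rw [← Scheme.Hom.comp_apply τ, hQ.lift_fst]; rfl
      have h2 : q₂ (τ (q₁ x)) = b₁ := by
        rw [← Scheme.Hom.comp_apply τ, hQ.lift_snd, Scheme.Hom.comp_apply]
        exact pointOfClosedPoint_apply _ _ _ _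
      have := mem_range_section hQ c hc (sec₀ c hc) (hQ.lift_fst _ _ _) (hQ.lift_snd _ _ _) (τ (q₁ x))
        ⟨IsLocalRing.closedPoint k, by rw [pointOfClosedPoint_apply, h1]⟩
      rwa [h2] at this
    rw [Scheme.Hom.comp_apply, show G (q₁ x) = F (τ (q₁ x)) from rfl, hτ]
    conv_lhs => rw [hxr]
    exact hrigid c hc hcC _ _ hx.2 hb₁

end Groth.Agent.Rat1.FamilyFixedPoint
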