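import Groth.Agent.Tors37.Dense
import Groth.Agent.Curves2.ImageReduced
import Groth.Agent.CAlg9.BirationalPoint
import Mathlib.AlgebraicGeometry.AlgClosed.Basic
import Mathlib.AlgebraicGeometry.Morphisms.Proper
import Mathlib.AlgebraicGeometry.Birational.RationalMap

/-!
The closure of the graph of a rational map to a proper scheme.
-/

set_option autoImplicit false
set_option backward.isDefEq.respectTransparency false
set_option backward.defeqAttrib.useBackward true
set_option linter.style.haveILetI false

universe u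

open CategoryTheory CategoryTheory.Limits AlgebraicGeometry TopologicalSpace

namespace Groth.Agent.Rat1.GraphClosure

variable {k : Type u} [Field k] [IsAlgClosed k]

theorem isSeparated_scheme {X : Scheme.{u}} (pX : X ⟶ Spec (CommRingCat.of k)) [IsSeparated pX] : X.IsSeparated := by
  constructor
  rw [← terminal.comp_from pX]
  infer_instance

theorem exists_model {S X : Scheme.{u}} (pS : S ⟶ Spec (CommRingCat.of k)) (pX : X ⟶ Spec (CommRingCat.of k))
    [IsIntegral S] [LocallyOfFiniteType pS] [IsProper pX] (U : S.Opens) [Nonempty U]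
    (φ : (U : Scheme.{u}) ⟶ X) (hφ : φ ≫ pX = U.ι ≫ pS) :
    ∃ (Γ : Scheme.{u}) (_ : IsIntegral Γ) (q : Γ ⟶ S) (r : Γ ⟶ X) (l : (U : Scheme.{u}) ⟶ Γ),
      IsProper q ∧ q ≫ pS = r ≫ pX ∧ l ≫ q = U.ι ∧ l ≫ r = φ ∧ IsIso (q ∣_ U) ∧
      ∀ z : S, IsClosed ({z} : Set S) → ∀ γ γ' : Γ, q γ = z → q γ' = z → r γ = r γ' → γ = γ' := by
  haveI : IsLocallyNoetherian S := LocallyOfFiniteType.isLocallyNoetherian pS
  haveI : IsDominant U.ι := ⟨by
    rw [DenseRange, Scheme.Opens.range_ι]
    exact U.2.dense ⟨_, (Classical.arbitrary U).2⟩⟩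
  haveI : IsSchemeTheoreticallyDominant U.ι := IsSchemeTheoreticallyDominant.of_isDominant _
  haveI : QuasiCompact U.ι := inferInstance
  haveI : IsIntegral (U : Scheme.{u}) := inferInstance
  let gr : (U : Scheme.{u}) ⟶ pullback pS pX := pullback.lift U.ι φ hφ.symm
  have hgr : gr ≫ pullback.fst pS pX = U.ι := pullback.lift_fst _ _ _
  haveI : QuasiCompact (gr ≫ pullback.fst pS pX) := by rw [hgr]; infer_instance
  haveI : QuasiCompact gr := QuasiCompact.of_comp gr (pullback.fst pS pX)
  haveI := Curves2.isReduced_image gr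
  have hg : IsGenericPoint (gr.toImage (genericPoint (U : Scheme.{u}))) (Set.univ : Set gr.image) := by
    rw [isGenericPoint_def, Set.eq_univ_iff_forall]
    intro w
    refine closure_mono (Set.range_subset_iff.2 fun z => ?_) |>.trans closure_closure.subset
      (show w ∈ closure (Set.range gr.toImage) from gr.toImage.denseRange w)
    exact specializes_iff_mem_closure.1 ((genericPoint_specializes z).map gr.toImage.continuous)
  haveI : IrreducibleSpace gr.image := (irreducibleSpace_def _).2 hg.isIrreducible
  haveI : IsIntegral gr.image := isIntegral_of_irreducibleSpace_of_isReduced _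
  let q : gr.image ⟶ S := gr.imageι ≫ pullback.fst pS pX
  let r : gr.image ⟶ X := gr.imageι ≫ pullback.snd pS pX
  have hqr : q ≫ pS = r ≫ pX := by simp only [q, r, Category.assoc, pullback.condition]
  have hlq : gr.toImage ≫ q = U.ι := by simp [q, hgr]
  have hlr : gr.toImage ≫ r = φ := by simp [r, gr]
  have hiso : IsIso (q ∣_ U) := by
    have hagree : pullback.snd U.ι U.ι ≫ φ = pullback.fst U.ι U.ι ≫ φ := by
      rw [(cancel_mono U.ι).1 (pullback.condition (f := U.ι) (g := U.ι)).symm]
    haveI := Tors37.isIso_image_graph U.ι pS pX φ hφ U.ι φ hφ hagree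
    rw [← (isPullback_morphismRestrict q U).flip.isoPullback_hom_snd]
    infer_instance
  refine ⟨gr.image, inferInstance, q, r, gr.toImage, inferInstance, hqr, hlq, hlr, hiso,
    fun z hz γ γ' h h' e => ?_⟩
  apply gr.imageι.isClosedEmbedding.injective
  let zp := pointOfClosedPoint pS z hz
  let j : X ⟶ pullback pS pX := pullback.lift (pX ≫ zp) (𝟙 X) (by
    rw [Category.assoc, pointOfClosedPoint_comp, Category.comp_id, Category.id_comp])
  have hj : IsPullback j pX (pullback.fst pS pX) zp := by
    refine IsPullback.of_right ?_ (pullback.lift_fst _ _ _) (IsPullback.of_hasPullback pS pX).flip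
    rw [pullback.lift_snd, pointOfClosedPoint_comp]
    exact IsPullback.of_horiz_isIso ⟨by simp⟩
  have hj' : ∀ δ : gr.image, q δ = z → gr.imageι δ = j (r δ) := fun δ hδ => by
    obtain ⟨x, hx, -⟩ := Scheme.exists_preimage_of_isPullback hj (gr.imageι δ)
      (IsLocalRing.closedPoint k) (hδ.trans (pointOfClosedPoint_apply pS z hz _).symm)
    have : r δ = x := by
      show (pullback.snd pS pX) (gr.imageι δ) = x
      rw [← hx, ← Scheme.Hom.comp_apply, pullback.lift_snd]
      rfl
    rw [this, hx]
  rw [hj' γ h, hj' γ' h', e]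

end Groth.Agent.Rat1.GraphClosure
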