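import Groth.Agent.Curves2.ProjLineField

/-!
A rational curve through the closure of a point with values in a purely transcendental field.
-/

set_option autoImplicit false
set_option backward.isDefEq.respectTransparency false

universe u

open CategoryTheory CategoryTheory.Limits AlgebraicGeometry TopologicalSpace

namespace Groth.Agent.Rat1.RatPointCurve

variable {k : Type u} [Field k]

theorem exists_curve_of_point {X : Scheme.{u}} (pX : X ⟶ Spec (CommRingCat.of k)) [IsProper pX]
    (pt : Spec (CommRingCat.of (RatFunc k)) ⟶ X)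
    (hpt : pt ≫ pX = Spec.map (CommRingCat.ofHom (algebraMap k (RatFunc k))))
    (w x : X) (hw : ∀ o, pt o = w) (hwx : w ⤳ x) (hne : w ≠ x) :
    ∃ g : CohB1.ProjSpace 1 k ⟶ X, g ≫ pX = CohB1.ProjSpace.toSpec 1 k ∧
      (¬ ∃ z : X, Set.range g.base ⊆ {z}) ∧ x ∈ Set.range g.base := by
  let P := CohB1.ProjSpace 1 k
  let qP := CohB1.ProjSpace.toSpec 1 k
  haveI : IsIntegral P := Curves2.ProjLine.isIntegral k 1
  haveI : IsLocallyNoetherian P := Curves2.ProjLine.isLocallyNoetherian k 1
  haveI : IsProper qP := Curves2.ProjLine.isProper_toSpec k 1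
  obtain ⟨ρ, hρ⟩ := Curves2.ProjLine.exists_ratFunc_equiv k
  let pt' : Spec P.functionField ⟶ X := Spec.map (CommRingCat.ofHom ρ.toRingHom) ≫ pt
  have hcomp : pt' ≫ pX = P.fromSpecStalk (genericPoint P) ≫ qP := by
    show _ = _ ≫ (P ↘ Spec (CommRingCat.of k))
    rw [← VarGal.SpecMap_curvStalkMap, Category.assoc, hpt, ← Spec.map_comp, ← CommRingCat.ofHom_comp]
    congr 2
    exact RingHom.ext hρ
  let f := Scheme.PartialMap.ofFromSpecStalk qP pX pt' hcomp
  have hη : genericPoint P ∈ f.domain := Scheme.PartialMap.mem_domain_ofFromSpecStalk qP pX pt' hcomp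
  haveI : Nonempty f.domain := ⟨⟨_, hη⟩⟩
  obtain ⟨g, hg, hgf⟩ := Curves2.exists_extension_of_valuationRing pX qP
    (Curves2.ProjLine.valuationRing_stalk k) f.domain f.hom
    (Scheme.PartialMap.ofFromSpecStalk_comp qP pX pt' hcomp)
  have hgη : g (genericPoint P) = w := by
    have h := Scheme.PartialMap.fromSpecStalkOfMem_ofFromSpecStalk qP pX pt' hcomp
    rw [Scheme.PartialMap.fromSpecStalkOfMem, ← hgf, ← Category.assoc,
      Scheme.Opens.fromSpecStalkOfMem_ι] at h
    have h2 := congrArg (fun m => m (IsLocalRing.closedPoint P.functionField)) h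
    simp only [Scheme.Hom.comp_apply, pt', hw] at h2
    exact (congrArg g Scheme.fromSpecStalk_closedPoint).symm.trans h2
  haveI : IsProper (g ≫ pX) := by rw [hg]; infer_instance
  haveI : IsProper g := IsProper.of_comp g pX
  have hx : x ∈ Set.range g.base :=
    hwx.mem_closed g.isClosedMap.isClosed_range ⟨_, hgη⟩
  refine ⟨g, hg, ?_, hx⟩
  rintro ⟨z, hz⟩
  exact hne ((hz ⟨_, hgη⟩).trans (hz hx).symm)

end Groth.Agent.Rat1.RatPointCurve
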