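import Mathlib.AlgebraicGeometry.AlgClosed.Basic
import Mathlib.RingTheory.Bezout
import Mathlib.RingTheory.Valuation.ValuationRing
import Groth.Agent.Curves2.SmoothNormal

/-!
Closed points of products of two smooth curves have two parameters.
-/

set_option autoImplicit false
set_option backward.isDefEq.respectTransparency false

universe u

open CategoryTheory CategoryTheory.Limits AlgebraicGeometry TopologicalSpace IsLocalRing

namespace Groth.Agent.Rat1.SurfacePoint

variable {k : Type u} [Field k] [IsAlgClosed k]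

/-- The constants in a local ring. -/
noncomputable def constHom {S : Scheme.{u}} (pS : S ⟶ Spec (CommRingCat.of k)) (z : S) :
    CommRingCat.of k ⟶ S.presheaf.stalk z :=
  Spec.preimage (S.fromSpecStalk z ≫ pS)

theorem specMap_constHom {S : Scheme.{u}} (pS : S ⟶ Spec (CommRingCat.of k)) (z : S) :
    Spec.map (constHom pS z) = S.fromSpecStalk z ≫ pS := Spec.map_preimage _

theorem comp_eq_point {C : Scheme.{u}} (pC : C ⟶ Spec (CommRingCat.of k)) [LocallyOfFiniteType pC]
    (c : C) (hc : IsClosed ({c} : Set C)) {T : CommRingCat.{u}} (ρ : C.presheaf.stalk c ⟶ T)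
    (hρ : ∀ a ∈ maximalIdeal (C.presheaf.stalk c), ρ a = 0) :
    Spec.map ρ ≫ C.fromSpecStalk c =
      (Spec.map ρ ≫ C.fromSpecStalk c ≫ pC) ≫ pointOfClosedPoint pC c hc := by
  let δ : C.residueField c ⟶ T :=
    CommRingCat.ofHom (Ideal.Quotient.lift _ ρ.hom (fun a ha => hρ a ha))
  have hδ : C.residue c ≫ δ = ρ := CommRingCat.hom_ext (RingHom.ext fun a => rfl)
  have e : C.fromSpecResidueField c =
      (C.fromSpecResidueField c ≫ pC) ≫ pointOfClosedPoint pC c hc := by
    rw [← SpecMap_residueFieldIsoBase_inv pC c hc, pointOfClosedPoint, ← Spec.map_comp_assoc,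
      Iso.hom_inv_id, Spec.map_id, Category.id_comp]
  have hl : Spec.map ρ ≫ C.fromSpecStalk c = Spec.map δ ≫ C.fromSpecResidueField c := by
    rw [← hδ, Spec.map_comp, Category.assoc]
    rfl
  rw [← Category.assoc (Spec.map ρ) (C.fromSpecStalk c), hl, Category.assoc, Category.assoc, ← Category.assoc (C.fromSpecResidueField c) pC, ← e]

theorem exists_two_generators {C B S : Scheme.{u}} (pC : C ⟶ Spec (CommRingCat.of k))
    (pB : B ⟶ Spec (CommRingCat.of k)) [LocallyOfFiniteType pC] [LocallyOfFiniteType pB]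
    (p₁ : S ⟶ C) (p₂ : S ⟶ B) (hP : IsPullback p₁ p₂ pC pB) (pS : S ⟶ Spec (CommRingCat.of k))
    (hpS : p₁ ≫ pC = pS)
    (hC : ∀ c : C, ∃ _ : IsDomain (C.presheaf.stalk c), ValuationRing (C.presheaf.stalk c))
    (hB : ∀ b : B, ∃ _ : IsDomain (B.presheaf.stalk b), ValuationRing (B.presheaf.stalk b))
    (z : S) (hz : IsClosed ({z} : Set S)) :
    ∃ x ∈ maximalIdeal (S.presheaf.stalk z), ∃ y ∈ maximalIdeal (S.presheaf.stalk z),
      ∀ a : S.presheaf.stalk z, ∃ (c : k) (p q : S.presheaf.stalk z), a = constHom pS z c + p * x + q * y := by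
  haveI : IsLocallyNoetherian C := LocallyOfFiniteType.isLocallyNoetherian pC
  haveI : IsLocallyNoetherian B := LocallyOfFiniteType.isLocallyNoetherian pB
  haveI : LocallyOfFiniteType p₂ :=
    MorphismProperty.of_isPullback hP ‹LocallyOfFiniteType pC›
  haveI : LocallyOfFiniteType p₁ :=
    MorphismProperty.of_isPullback hP.flip ‹LocallyOfFiniteType pB›
  haveI : LocallyOfFiniteType pS := hpS ▸ inferInstanceAs (LocallyOfFiniteType (p₁ ≫ pC))
  haveI : JacobsonSpace C := LocallyOfFiniteType.jacobsonSpace pC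
  haveI : JacobsonSpace B := LocallyOfFiniteType.jacobsonSpace pB
  have hc : IsClosed ({p₁ z} : Set C) := p₁.closePoints_subset_preimage_closedPoints hz
  have hb : IsClosed ({p₂ z} : Set B) := p₂.closePoints_subset_preimage_closedPoints hz
  obtain ⟨_, _⟩ := hC (p₁ z)
  obtain ⟨_, _⟩ := hB (p₂ z)
  obtain ⟨t, ht⟩ := IsBezout.isPrincipal_of_FG (maximalIdeal (C.presheaf.stalk (p₁ z)))
    (IsNoetherian.noetherian _)
  obtain ⟨u, hu⟩ := IsBezout.isPrincipal_of_FG (maximalIdeal (B.presheaf.stalk (p₂ z)))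
    (IsNoetherian.noetherian _)
  let x := p₁.stalkMap z t
  let y := p₂.stalkMap z u
  haveI : IsLocalHom (p₁.stalkMap z).hom := p₁.toLRSHom.prop z
  haveI : IsLocalHom (p₂.stalkMap z).hom := p₂.toLRSHom.prop z
  have htm : t ∈ maximalIdeal (C.presheaf.stalk (p₁ z)) := ht ▸ Ideal.mem_span_singleton_self t
  have hum : u ∈ maximalIdeal (B.presheaf.stalk (p₂ z)) := hu ▸ Ideal.mem_span_singleton_self u
  refine ⟨x, map_nonunit _ _ htm, y, map_nonunit _ _ hum, fun a => ?_⟩
  let I : Ideal (S.presheaf.stalk z) := Ideal.span {x, y}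
  let ρ : S.presheaf.stalk z ⟶ CommRingCat.of (S.presheaf.stalk z ⧸ I) :=
    CommRingCat.ofHom (Ideal.Quotient.mk I)
  let τ := Spec.map ρ ≫ S.fromSpecStalk z
  let zpt := pointOfClosedPoint pS z hz
  have h1 : τ ≫ p₁ = (τ ≫ pS) ≫ zpt ≫ p₁ := by
    have hk : ∀ a ∈ maximalIdeal (C.presheaf.stalk (p₁ z)), (p₁.stalkMap z ≫ ρ) a = 0 := fun a ha => by
      rw [ht] at ha
      obtain ⟨r, rfl⟩ := Ideal.mem_span_singleton'.1 ha
      show Ideal.Quotient.mk I (p₁.stalkMap z (r * t)) = 0
      rw [map_mul, Ideal.Quotient.eq_zero_iff_mem]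
      exact I.mul_mem_left _ (Ideal.subset_span (Set.mem_insert _ _))
    have hzc : zpt ≫ p₁ = pointOfClosedPoint pC (p₁ z) hc :=
      ext_of_apply_closedPoint_eq pC (by rw [Category.assoc, hpS]; exact pointOfClosedPoint_comp pS z hz)
        (pointOfClosedPoint_comp _ _ _) (by simp [zpt])
    rw [hzc]
    have := comp_eq_point pC (p₁ z) hc (p₁.stalkMap z ≫ ρ) hk
    rw [Spec.map_comp] at this
    simp only [Category.assoc, Scheme.SpecMap_stalkMap_fromSpecStalk,
      Scheme.SpecMap_stalkMap_fromSpecStalk_assoc, hpS] at this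
    simpa only [τ, Category.assoc] using this
  have hpS₂ : p₂ ≫ pB = pS := by rw [← hP.w, hpS]
  have h2 : τ ≫ p₂ = (τ ≫ pS) ≫ zpt ≫ p₂ := by
    have hk : ∀ a ∈ maximalIdeal (B.presheaf.stalk (p₂ z)), (p₂.stalkMap z ≫ ρ) a = 0 := fun a ha => by
      rw [hu] at ha
      obtain ⟨r, rfl⟩ := Ideal.mem_span_singleton'.1 ha
      show Ideal.Quotient.mk I (p₂.stalkMap z (r * u)) = 0
      rw [map_mul, Ideal.Quotient.eq_zero_iff_mem]
      exact I.mul_mem_left _ (Ideal.subset_span (Set.mem_insert_of_mem _ rfl))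
    have hzc : zpt ≫ p₂ = pointOfClosedPoint pB (p₂ z) hb :=
      ext_of_apply_closedPoint_eq pB (by rw [Category.assoc, hpS₂]; exact pointOfClosedPoint_comp pS z hz)
        (pointOfClosedPoint_comp _ _ _) (by simp [zpt])
    rw [hzc]
    have := comp_eq_point pB (p₂ z) hb (p₂.stalkMap z ≫ ρ) hk
    rw [Spec.map_comp] at this
    simp only [Category.assoc, Scheme.SpecMap_stalkMap_fromSpecStalk,
      Scheme.SpecMap_stalkMap_fromSpecStalk_assoc, hpS₂] at this
    simpa only [τ, Category.assoc] using this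
  have h : τ = (τ ≫ pS) ≫ zpt := hP.hom_ext (h1.trans (Category.assoc _ _ _).symm) (h2.trans (Category.assoc _ _ _).symm)
  let ε : S.presheaf.stalk z ⟶ CommRingCat.of k := S.residue z ≫ (residueFieldIsoBase pS z hz).hom
  have hρ : ρ = ε ≫ constHom pS z ≫ ρ := by
    apply Spec.map_injective
    rw [← cancel_mono (S.fromSpecStalk z)]
    refine h.trans ?_
    simp only [τ, zpt, ε, pointOfClosedPoint, Spec.map_comp, specMap_constHom, Category.assoc,
      Scheme.fromSpecResidueField]
  have : a - constHom pS z (ε a) ∈ I := by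
    rw [← Ideal.Quotient.eq_zero_iff_mem, map_sub, sub_eq_zero]
    exact congr($hρ a)
  obtain ⟨p, q, hpq⟩ := Ideal.mem_span_pair.1 this
  exact ⟨ε a, p, q, by rw [add_assoc, hpq]; ring⟩

end Groth.Agent.Rat1.SurfacePoint
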