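import Groth.Agent.Rat1.QuadChain
import Groth.Agent.Rat1.RatPointCurve
import Groth.Agent.Rat1.GraphClosure
import Groth.Agent.Rat1.SurfacePoint
import Groth.Agent.E4O.DvrDom
import Groth.Agent.LimTop61.NormalPoint
import Groth.Agent.Curves2.BirationalPush
import Groth.Agent.FlatMor66.NormalStein

/-!
An indeterminacy point of a rational map from a surface produces rational curves through every point of its fibre.
-/

set_option autoImplicit false
set_option backward.isDefEq.respectTransparency false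
set_option backward.defeqAttrib.useBackward true
set_option linter.style.haveILetI false

universe u

open CategoryTheory CategoryTheory.Limits AlgebraicGeometry TopologicalSpace IsLocalRing

namespace Groth.Agent.Rat1.Indeterminacy

variable {k : Type u} [Field k] [IsAlgClosed k]

theorem preconnected_fibre {Γ S : Scheme.{u}} [IsIntegral Γ] [IsIntegral S] (q : Γ ⟶ S) [IsProper q]
    (U : S.Opens) (hU : (U : Set S).Nonempty) [IsIso (q ∣_ U)]
    (hN : ∀ y : S, IsIntegrallyClosed (S.presheaf.stalk y)) (y : S) :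
    _root_.IsPreconnected (q.base ⁻¹' {y}) := by
  haveI := FlatMor66.NormalStein.geometricallyConnected_of_isIso_app q
    fun V => Curves2.isIso_app_of_birational q hN U hU V
  haveI : ConnectedSpace ↥(pullback q (S.fromSpecResidueField y)) :=
    GeometricallyConnected.geometrically_connectedSpace (f := q) (S.fromSpecResidueField y) _ _
      (IsPullback.of_hasPullback _ _)
  have h := isConnected_range (pullback.fst q (S.fromSpecResidueField y)).continuous
  rw [Scheme.Pullback.range_fst, Scheme.range_fromSpecResidueField] at h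
  exact h.isPreconnected

/-- A curve over a non-closed point of a birational model of a surface. -/
theorem exists_point_ratFunc {Γ S : Scheme.{u}} [IsIntegral Γ] [IsIntegral S]
    (pS : S ⟶ Spec (CommRingCat.of k)) (q : Γ ⟶ S) [LocallyOfFiniteType pS] [IsSeparated pS] [IsProper q]
    (hgen : q (genericPoint Γ) = genericPoint S) (hbir : IsIso (q.stalkMap (genericPoint Γ)))
    (γ : Γ) (hγ : γ ≠ genericPoint Γ) (hnc : ¬ IsClosed ({γ} : Set Γ))
    (h2 : ∃ x ∈ maximalIdeal (S.presheaf.stalk (q γ)), ∃ y ∈ maximalIdeal (S.presheaf.stalk (q γ)),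
      ∀ a : S.presheaf.stalk (q γ), ∃ (c : k) (p p' : S.presheaf.stalk (q γ)),
        a = SurfacePoint.constHom pS (q γ) c + p * x + p' * y) :
    ∃ e : Γ.residueField γ ⟶ CommRingCat.of (RatFunc k),
      Spec.map e ≫ Γ.fromSpecResidueField γ ≫ q ≫ pS = Spec.map (CommRingCat.ofHom (algebraMap k (RatFunc k))) := by
  haveI : IsLocallyNoetherian S := LocallyOfFiniteType.isLocallyNoetherian pS
  haveI : LocallyOfFiniteType (q ≫ pS) := inferInstance
  haveI : IsLocallyNoetherian Γ := LocallyOfFiniteType.isLocallyNoetherian (q ≫ pS)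
  let R := Γ.presheaf.stalk γ
  let K := Γ.functionField
  have hR : ¬ IsField R := by
    intro hf
    have hs : genericPoint Γ ∈ Set.range (Γ.fromSpecStalk γ) := by
      rw [Scheme.range_fromSpecStalk]; exact genericPoint_specializes γ
    obtain ⟨o, ho⟩ := hs
    have hb : ∀ c : PrimeSpectrum R, c.asIdeal = ⊥ := fun c => le_bot_iff.1
      ((IsLocalRing.le_maximalIdeal c.isPrime.ne_top).trans (IsLocalRing.isField_iff_maximalIdeal_eq.1 hf).le)
    haveI : Subsingleton (Spec (Γ.presheaf.stalk γ)) := ⟨fun a b => PrimeSpectrum.ext ((hb a).trans (hb b).symm)⟩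
    rw [Subsingleton.elim o (IsLocalRing.closedPoint _), Scheme.fromSpecStalk_closedPoint] at ho
    exact hγ ho
  obtain ⟨V, hV, hRV, hmV⟩ := E4O.exists_dvr_dominating hR K K
    (by rw [← IntermediateField.bot_eq_top_of_finrank_adjoin_eq_one (F := K) (E := K) (fun x => by
      rw [IntermediateField.finrank_adjoin_simple_eq_one_iff]
      exact IntermediateField.mem_bot.2 ⟨x, rfl⟩)]
        exact IntermediateField.fg_bot)
  let φR : R →+* V := (algebraMap R K).codRestrict V.toSubring hRV
  haveI : IsLocalHom φR := ⟨fun a ha => by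
    by_contra hu
    have h1 := hmV a hu
    have h2 := (V.valuation_eq_one_iff (φR a)).1 ha
    exact h1.ne h2⟩
  let cR : CommRingCat.of k ⟶ R := SurfacePoint.constHom pS (q γ) ≫ q.stalkMap γ
  letI algV : Algebra k V := (φR.comp cR.hom).toAlgebra
  letI : Algebra k (S.presheaf.stalk (q γ)) := (SurfacePoint.constHom pS (q γ)).hom.toAlgebra
  let ψ : S.presheaf.stalk (q γ) →ₐ[k] V := { φR.comp (q.stalkMap γ).hom with commutes' := fun c => rfl }
  obtain ⟨x, hx, y, hy, hgen2⟩ := h2
  haveI : IsLocalHom (q.stalkMap γ).hom := q.toLRSHom.prop γ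
  have hA : QuadChain.TwoGen ψ.range (ψ x) (ψ y) :=
    { x_mem := ⟨x, rfl⟩
      y_mem := ⟨y, rfl⟩
      x_max := map_nonunit φR _ (map_nonunit (q.stalkMap γ).hom _ hx)
      y_max := map_nonunit φR _ (map_nonunit (q.stalkMap γ).hom _ hy)
      gen := by
        rintro _ ⟨a, rfl⟩
        obtain ⟨c, p, p', rfl⟩ := hgen2 a
        exact ⟨c, ψ p, ⟨p, rfl⟩, ψ p', ⟨p', rfl⟩, by
          show ψ (algebraMap k _ c + p * x + p' * y) = _
          rw [map_add, map_add, map_mul, map_mul, AlgHom.commutes]⟩
      frac := fun v => by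
        have hsm := ConcreteCategory.bijective_of_isIso (q.stalkMap (genericPoint Γ))
        have hηγ : genericPoint Γ ⤳ γ := genericPoint_specializes γ
        have hηy : q (genericPoint Γ) ⤳ q γ := q.base.hom.map_specializes hηγ
        obtain ⟨w, hw⟩ := hsm.2 (v : K)
        obtain ⟨a, t, ht, hat⟩ := (CAlg9.BirationalPoint.specializes_frac hηy).1 w
        have hc : ∀ o, q.stalkMap (genericPoint Γ) (S.presheaf.stalkSpecializes hηy o) = (ψ o : K) :=
          fun o => Scheme.Hom.stalkSpecializes_stalkMap_apply q _ _ hηγ o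
        refine ⟨ψ a, ⟨a, rfl⟩, ψ t, ⟨t, rfl⟩, ?_, ?_⟩
        · intro h0
          have := (ht.map (q.stalkMap (genericPoint Γ)).hom).ne_zero
          exact this ((hc t).trans (congrArg Subtype.val h0))
        · apply Subtype.ext
          show (v : K) * (ψ t : K) = (ψ a : K)
          rw [← hw, ← hc, ← hc, ← map_mul, hat] }
  have htr : ∃ h : V, ∀ c : k, residue V h ≠ algebraMap k (ResidueField V) c := by
    by_contra hall
    push Not at hall
    apply hnc
    let cκ : CommRingCat.of k ⟶ Γ.residueField γ := cR ≫ Γ.residue γ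
    have hspec : Spec.map cκ = Γ.fromSpecResidueField γ ≫ q ≫ pS := by
      simp only [cκ, cR, Spec.map_comp, Category.assoc, SurfacePoint.specMap_constHom,
        Scheme.SpecMap_stalkMap_fromSpecStalk_assoc, Scheme.fromSpecResidueField]
    have hbij : Function.Bijective cκ := by
      refine ⟨cκ.hom.injective, fun r => ?_⟩
      obtain ⟨a, rfl⟩ := residue_surjective r
      obtain ⟨c, hc⟩ := hall (φR a)
      refine ⟨c, (IsLocalRing.ResidueField.map φR).injective ?_⟩
      exact hc.symm.trans rfl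
    haveI : IsIso cκ := (ConcreteCategory.isIso_iff_bijective _).2 hbij
    haveI : IsSeparated (q ≫ pS) := inferInstance
    haveI : IsClosedImmersion (Γ.fromSpecResidueField γ ≫ q ≫ pS) := hspec ▸ inferInstance
    rw [isClosed_singleton_iff_isClosedImmersion]
    exact IsClosedImmersion.of_comp (Γ.fromSpecResidueField γ) (q ≫ pS)
  obtain ⟨e⟩ := QuadChain.exists_hom_ratFunc hA htr
  refine ⟨CommRingCat.ofHom (e.toRingHom.comp (IsLocalRing.ResidueField.map φR)), ?_⟩
  rw [← SurfacePoint.specMap_constHom pS (q γ) |> fun h => show Spec.map (cR ≫ Γ.residue γ) =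
      Γ.fromSpecResidueField γ ≫ q ≫ pS by
    simp only [cR, Spec.map_comp, Category.assoc, h, Scheme.SpecMap_stalkMap_fromSpecStalk_assoc,
      Scheme.fromSpecResidueField], ← Spec.map_comp]
  congr 1
  exact CommRingCat.hom_ext (RingHom.ext fun c => e.commutes c)

theorem exists_curve_through {S X : Scheme.{u}} (pS : S ⟶ Spec (CommRingCat.of k))
    (pX : X ⟶ Spec (CommRingCat.of k)) [IsIntegral S] [LocallyOfFiniteType pS] [IsSeparated pS]
    [QuasiCompact pS] [IsProper pX] [X.IsSeparated]
    (hN : ∀ y : S, IsIntegrallyClosed (S.presheaf.stalk y))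
    (U : S.Opens) [Nonempty U] (hUd : Dense (U : Set S)) (φ : (U : Scheme.{u}) ⟶ X)
    {Γ : Scheme.{u}} [IsIntegral Γ] (q : Γ ⟶ S) (r : Γ ⟶ X) (l : (U : Scheme.{u}) ⟶ Γ) [IsProper q]
    (hqr : q ≫ pS = r ≫ pX) (hlq : l ≫ q = U.ι) (hlr : l ≫ r = φ) [IsIso (q ∣_ U)]
    (hinj : ∀ z : S, IsClosed ({z} : Set S) → ∀ γ γ' : Γ, q γ = z → q γ' = z → r γ = r γ' → γ = γ')
    (z : S) (hz : IsClosed ({z} : Set S))
    (hnd : z ∉ (Scheme.PartialMap.toRationalMap (⟨U, hUd, φ⟩ : S.PartialMap X)).domain)
    (h2 : ∃ x ∈ maximalIdeal (S.presheaf.stalk z), ∃ y ∈ maximalIdeal (S.presheaf.stalk z),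
      ∀ a : S.presheaf.stalk z, ∃ (c : k) (p p' : S.presheaf.stalk z),
        a = SurfacePoint.constHom pS z c + p * x + p' * y)
    (γ₀ : Γ) (hγ₀ : q γ₀ = z) (hγ₀c : IsClosed ({γ₀} : Set Γ)) :
    ∃ g : CohB1.ProjSpace 1 k ⟶ X, g ≫ pX = CohB1.ProjSpace.toSpec 1 k ∧
      (¬ ∃ x : X, Set.range g.base ⊆ {x}) ∧ r γ₀ ∈ Set.range g.base := by
  let f := Scheme.PartialMap.toRationalMap (⟨U, hUd, φ⟩ : S.PartialMap X)
  have hU : (U : Set S).Nonempty := ⟨_, (Classical.arbitrary U).2⟩
  have hηU : genericPoint S ∈ U :=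
    ((genericPoint_spec S).mem_open_set_iff U.2).2 (by simpa using hU)
  have hgen : q (genericPoint Γ) = genericPoint S := by
    obtain ⟨u, hu⟩ : ∃ u : ↥(U : Scheme.{u}), U.ι u = genericPoint S := ⟨⟨_, hηU⟩, rfl⟩
    have h1 : q (l u) = genericPoint S := by rw [← Scheme.Hom.comp_apply, hlq, hu]
    exact (Specializes.antisymm ((h1 ▸ (genericPoint_specializes (l u)).map q.continuous :))
      (genericPoint_specializes _)).eq
  have hbir : IsIso (q.stalkMap (genericPoint Γ)) :=
    CAlg9.BirationalPoint.isIso_stalkMap_of_restrict q U _ (hgen ▸ hηU)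
  have hzη : z ≠ genericPoint S := fun e => hnd (e ▸ (Scheme.PartialMap.le_domain_toRationalMap
    (⟨U, hUd, φ⟩ : S.PartialMap X)) hηU)
  let F : Set Γ := q.base ⁻¹' {z}
  have hFc : IsClosed F := hz.preimage q.continuous
  have hF : _root_.IsPreconnected F := preconnected_fibre q U hU hN z
  -- the fibre is not a single point
  have hne : F ≠ {γ₀} := by
    intro hF1
    have hFs : F.Subsingleton := by rw [hF1]; exact Set.subsingleton_singleton
    haveI : Subsingleton (q.base ⁻¹' {q γ₀} : Set Γ) := Set.subsingleton_coe _ |>.2 (by rw [hγ₀]; exact hFs)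
    haveI : Subsingleton (q.fiber (q γ₀)) := (q.fiberHomeo (q γ₀)).injective.subsingleton
    have hq : q.QuasiFiniteAt γ₀ :=
      Scheme.Hom.quasiFiniteAt_iff_isOpen_singleton_asFiber.2 (by
        rw [Set.eq_univ_of_forall (s := ({q.asFiber γ₀} : Set _)) fun a => Subsingleton.elim a _]
        exact isOpen_univ)
    haveI := LimTop61.isIso_stalkMap_of_quasiFiniteAt q hgen hbir γ₀ hq (hN _)
    obtain ⟨V, hγV, hVi⟩ := LimTop61.exists_isIso_morphismRestrict_of_isIso_stalkMap q γ₀
    haveI := hVi
    have hVd : Dense (V : Set S) := V.2.dense ⟨_, hγV⟩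
    let ψ : (V : Scheme.{u}) ⟶ X := inv (q ∣_ V) ≫ (q ⁻¹ᵁ V).ι ≫ r
    refine hnd (Scheme.RationalMap.mem_domain.2 ⟨⟨V, hVd, ψ⟩, hγ₀ ▸ hγV,
      Scheme.PartialMap.toRationalMap_eq_iff.2 ⟨V ⊓ U, hVd.inter_of_isOpen_left hUd V.2,
        inf_le_left, inf_le_right, ?_⟩⟩)
    show S.homOfLE _ ≫ ψ = S.homOfLE _ ≫ φ
    have key : S.homOfLE (inf_le_left : V ⊓ U ≤ V) ≫ inv (q ∣_ V) ≫ (q ⁻¹ᵁ V).ι =
        S.homOfLE (inf_le_right : V ⊓ U ≤ U) ≫ l := by
      refine CAlg9.BirationalPoint.eq_of_comp_eq q V _ _ ?_ fun t => ?_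
      · simp only [Category.assoc, hlq, ← morphismRestrict_ι, IsIso.inv_hom_id_assoc, Scheme.homOfLE_ι]
      · simp only [Category.assoc, ← morphismRestrict_ι, IsIso.inv_hom_id_assoc, Scheme.homOfLE_ι]
        exact t.2.1
    rw [← hlr, ← reassoc_of% key]
  -- a positive dimensional component through the given point
  haveI : CompactSpace S := QuasiCompact.compactSpace_of_compactSpace pS
  haveI : IsLocallyNoetherian S := LocallyOfFiniteType.isLocallyNoetherian pS
  haveI : CompactSpace Γ := QuasiCompact.compactSpace_of_compactSpace q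
  haveI : LocallyOfFiniteType (q ≫ pS) := inferInstance
  haveI : IsLocallyNoetherian Γ := LocallyOfFiniteType.isLocallyNoetherian (q ≫ pS)
  haveI : IsNoetherian Γ := {}
  obtain ⟨γ, hγF, hγγ₀, hγne⟩ : ∃ γ ∈ F, γ ⤳ γ₀ ∧ γ ≠ γ₀ := by
    haveI : PreconnectedSpace F := Subtype.preconnectedSpace hF
    let p : F := ⟨γ₀, hγ₀⟩
    let K := irreducibleComponent p
    have hKimg : IsIrreducible (Subtype.val '' K) :=
      isIrreducible_irreducibleComponent.image _ continuous_subtype_val.continuousOn
    have hKc : IsClosed (Subtype.val '' K) :=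
      hFc.isClosedMap_subtype_val _ isClosed_irreducibleComponent
    have hgp : IsGenericPoint hKimg.genericPoint (Subtype.val '' K) := by
      simpa [hKc.closure_eq] using hKimg.isGenericPoint_genericPoint_closure
    refine ⟨hKimg.genericPoint, ?_, hgp.specializes ⟨p, mem_irreducibleComponent, rfl⟩, fun e => ?_⟩
    · obtain ⟨a, -, ha⟩ := hgp.mem
      exact ha ▸ a.2
    have hK1 : K = {p} := by
      refine Set.eq_singleton_iff_unique_mem.2 ⟨mem_irreducibleComponent, fun a ha => Subtype.ext ?_⟩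
      have h := hgp.specializes ⟨a, ha, rfl⟩
      rw [e] at h
      exact (h.mem_closed hγ₀c rfl : (a : Γ) ∈ ({γ₀} : Set Γ))
    have hopen : IsOpen ({p} : Set F) := by
      haveI : NoetherianSpace F := inferInstance
      have hfin := (NoetherianSpace.finite_irreducibleComponents (α := F)).sdiff (t := {K})
      have hcl : IsClosed (⋃₀ (irreducibleComponents F \ {K})) := by
        rw [Set.sUnion_eq_biUnion]
        exact hfin.isClosed_biUnion fun C hC => isClosed_of_mem_irreducibleComponents _ hC.1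
      convert hcl.isOpen_compl using 1
      ext a
      simp only [Set.mem_singleton_iff, Set.mem_compl_iff, Set.mem_sUnion]
      constructor
      · rintro rfl ⟨C, ⟨hC, hCK⟩, hpC⟩
        refine hCK (Set.mem_singleton_iff.2 (Set.Subset.antisymm ?_ ?_))
        · exact (irreducibleComponent_mem_irreducibleComponents p).2 hC.1
            (by show K ⊆ C; rw [hK1]; exact Set.singleton_subset_iff.2 hpC)
        · rw [hK1]; exact Set.singleton_subset_iff.2 hpC
      · intro h
        by_contra hap
        refine h ⟨irreducibleComponent a, ⟨irreducibleComponent_mem_irreducibleComponents a, fun hK => ?_⟩,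
          mem_irreducibleComponent⟩
        have := (Set.mem_singleton_iff.1 hK) ▸ (mem_irreducibleComponent : a ∈ irreducibleComponent a)
        rw [hK1] at this
        exact hap this
    have := IsClopen.eq_univ (s := ({p} : Set F)) ⟨by
      convert hγ₀c.preimage (continuous_subtype_val : Continuous (Subtype.val : F → Γ)) using 1
      ext a; simp [p, Subtype.ext_iff], hopen⟩ (Set.singleton_nonempty p)
    refine hne (Set.eq_singleton_iff_unique_mem.2 ⟨hγ₀, fun a ha => ?_⟩)
    exact congrArg Subtype.val (Set.mem_singleton_iff.1 (this.symm ▸ Set.mem_univ (⟨a, ha⟩ : F)) :)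
  have hγz : q γ = z := hγF
  have hnc : ¬ IsClosed ({γ} : Set Γ) := fun h => hγne ((hγγ₀.mem_closed h rfl : γ₀ ∈ ({γ} : Set Γ)).symm)
  have hγη : γ ≠ genericPoint Γ := fun e => hzη (by rw [← hγz, e, hgen])
  subst hγz
  obtain ⟨e, he⟩ := exists_point_ratFunc pS q hgen hbir γ hγη hnc h2
  refine RatPointCurve.exists_curve_of_point pX (Spec.map e ≫ Γ.fromSpecResidueField γ ≫ r) ?_
    (r γ) (r γ₀) (fun o => ?_) (hγγ₀.map r.continuous) fun h => hγne (hinj _ hz _ _ rfl hγ₀ h)
  · rw [← he, hqr]
    simp only [Category.assoc]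
  · simp [Scheme.Hom.comp_apply]

end Groth.Agent.Rat1.Indeterminacy
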