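import Groth.Agent.Rat1.Bubble

/-!
Bringing a rational curve with a marked point into normal form.
-/

set_option autoImplicit false

universe u v w

open Polynomial

namespace Groth.Agent.Rat1.Pencil

variable {k : Type u} [Field k] {σ : Type w} {F : Type v} [Field F] [Algebra k F] {A : Type u} [CommRing A]
  [Algebra k A]

theorem rel_of_hom (y : σ → A) (m : F[X] →ₐ[k] RatFunc F) (hm : Function.Injective m) (D D' : F[X])
    (G G' : σ → F[X])
    (h : ∀ i, m (G i) / m D = algebraMap F[X] (RatFunc F) (G' i) / algebraMap F[X] (RatFunc F) D')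
    (hrel : Bubble.Rel (k := k) y D G) : Bubble.Rel (k := k) y D' G' := by
  intro P hP
  let τ : RatFunc F →ₐ[k] RatFunc F :=
    RatFunc.liftAlgHom m (nonZeroDivisors_le_comap_nonZeroDivisors_of_injective _ hm)
  have := congrArg τ (hrel P hP)
  rw [map_zero, ← AlgHom.comp_apply, MvPolynomial.comp_aeval] at this
  refine Eq.trans ?_ this
  congr 2
  ext i
  rw [RatFunc.liftAlgHom_apply_div, h]

theorem rel_taylor (y : σ → A) (D : F[X]) (G : σ → F[X]) (r : F) (hrel : Bubble.Rel (k := k) y D G) :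
    Bubble.Rel (k := k) y (taylor r D) (fun i => taylor r (G i)) := by
  refine rel_of_hom y ((IsScalarTower.toAlgHom k F[X] (RatFunc F)).comp
    ((taylorAlgHom r).restrictScalars k)) ?_ D _ G _ (fun i => ?_) hrel
  · rw [AlgHom.coe_comp]
    exact (RatFunc.algebraMap_injective F).comp (taylor_injective r)
  · rfl

theorem rel_cancel (y : σ → A) (D p : F[X]) (hp : p ≠ 0) (G : σ → F[X])
    (hrel : Bubble.Rel (k := k) y (p * D) (fun i => p * G i)) : Bubble.Rel (k := k) y D G := by
  intro P hP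
  refine Eq.trans ?_ (hrel P hP)
  congr 2
  ext i
  rw [map_mul, map_mul, mul_div_mul_left _ _ ((map_ne_zero_iff _ (RatFunc.algebraMap_injective F)).2 hp)]

theorem rel_reflect (y : σ → A) (D : F[X]) (G : σ → F[X]) (n : ℕ) (hD : D.natDegree ≤ n)
    (hG : ∀ i, (G i).natDegree ≤ n) (hrel : Bubble.Rel (k := k) y D G) :
    Bubble.Rel (k := k) y (D.reflect n) (fun i => (G i).reflect n) := by
  letI : Invertible (RatFunc.X : RatFunc F) := invertibleOfNonzero RatFunc.X_ne_zero
  have hX : ∀ q : F[X], aeval (RatFunc.X : RatFunc F) q = algebraMap F[X] (RatFunc F) q := fun q => by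
    rw [← RatFunc.algebraMap_X, aeval_algebraMap_apply, aeval_X_left_apply]
  have hdeg : ∀ (q : F[X]) (m : ℕ), q.natDegree ≤ m → (q.reflect m).natDegree ≤ m := fun q m hq =>
    natDegree_le_iff_coeff_eq_zero.2 fun l hl => by
      rw [coeff_reflect, revAt_eq_self_of_lt hl, coeff_eq_zero_of_natDegree_lt (hq.trans_lt hl)]
  have key' : ∀ (q : F[X]) (m : ℕ), q.natDegree ≤ m →
      aeval (RatFunc.X : RatFunc F)⁻¹ q * RatFunc.X ^ m = algebraMap F[X] (RatFunc F) (q.reflect m) := by
    intro q m hq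
    have h := eval₂_reflect_mul_pow (algebraMap F (RatFunc F)) (RatFunc.X : RatFunc F) m (q.reflect m)
      (hdeg q m hq)
    rwa [reflect_reflect, invOf_eq_inv, ← aeval_def, ← aeval_def, hX] at h
  refine rel_of_hom y ((aeval ((RatFunc.X : RatFunc F)⁻¹)).restrictScalars k) ?_ D _ G _ (fun i => ?_) hrel
  · rw [injective_iff_map_eq_zero]
    intro q hq
    have := key' q q.natDegree le_rfl
    rw [show aeval ((RatFunc.X : RatFunc F)⁻¹) q = 0 from hq, zero_mul] at this
    exact reflect_eq_zero_iff.1 ((RatFunc.algebraMap_injective F) (by rw [← this, map_zero]))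
  · show aeval _ (G i) / aeval _ D = _
    rw [← key' _ n (hG i), ← key' _ n hD, mul_div_mul_right _ _ (pow_ne_zero _ RatFunc.X_ne_zero)]

variable [IsAlgClosed F]

theorem exists_marked_root (y : σ → A) (c : σ → F) (d : ℕ) :
    ∀ (Q : F[X]) (H : σ → F[X]), Q.natDegree ≤ d → (∀ i, (H i).degree < Q.degree) → (∃ i, H i ≠ 0) →
      Bubble.Rel (k := k) y Q (fun i => C (c i) * Q + H i) →
      ∃ (Q' : F[X]) (H' : σ → F[X]), (∀ i, (H' i).degree < Q'.degree) ∧ Q'.coeff 0 = 0 ∧
        (∃ i, (H' i).coeff 0 ≠ 0) ∧ Bubble.Rel (k := k) y Q' (fun i => C (c i) * Q' + H' i) := by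
  induction d with
  | zero =>
    rintro Q H hQ hH ⟨i, hi⟩ -
    have h1 := hH i
    rw [degree_eq_natDegree hi] at h1
    have h2 := h1.trans_le degree_le_natDegree
    rw [Nat.le_zero.1 hQ] at h2
    exact absurd (WithBot.coe_lt_coe.1 h2) (Nat.not_lt_zero _)
  | succ d ih =>
    rintro Q H hQ hH ⟨i₀, hi₀⟩ hrel
    have hpos : 0 < Q.degree := lt_of_le_of_lt (zero_le_degree_iff.2 hi₀) (hH i₀)
    obtain ⟨r, hr⟩ := IsAlgClosed.exists_root Q hpos.ne'
    by_cases hall : ∀ i, (H i).IsRoot r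
    · obtain ⟨Q₁, hQ₁⟩ := dvd_iff_isRoot.2 hr
      choose H₁ hH₁ using fun i => dvd_iff_isRoot.2 (hall i)
      have hp : (X - C r) ≠ 0 := X_sub_C_ne_zero r
      have hQ₁0 : Q₁ ≠ 0 := fun h => by
        rw [hQ₁, h, mul_zero, degree_zero] at hpos; exact not_lt_bot hpos
      refine ih Q₁ H₁ ?_ (fun i => ?_) ⟨i₀, fun h => hi₀ (by rw [hH₁ i₀, h, mul_zero])⟩
        (rel_cancel y Q₁ (X - C r) hp _ ?_)
      · rw [hQ₁, natDegree_mul hp hQ₁0, natDegree_X_sub_C] at hQ
        omega
      · have h := hH i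
        rw [hH₁ i, hQ₁, degree_mul, degree_mul] at h
        exact lt_of_add_lt_add_left h
      · rw [← hQ₁]
        convert hrel using 2 with i
        rw [hH₁ i, hQ₁]
        ring
    · push Not at hall
      obtain ⟨i, hi⟩ := hall
      refine ⟨taylor r Q, fun i => taylor r (H i), fun i => ?_, ?_, ⟨i, ?_⟩, ?_⟩
      · rw [degree_taylor, degree_taylor]; exact hH i
      · rw [taylor_coeff_zero]; exact hr
      · rw [taylor_coeff_zero]; exact hi
      · convert rel_taylor y Q _ r hrel using 2 with j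
        rw [map_add, taylor_mul, taylor_C]

/-- A non-constant rational map with an integral value at the marked point `τ` in the normal form. -/
theorem exists_normal_form [Finite σ] (y : σ → A) (b : F[X]) (a : σ → F[X]) (τ : F) (c : σ → F)
    (hb : b.eval τ ≠ 0) (hc : ∀ i, (a i).eval τ = c i * b.eval τ) (hne : ∃ i, a i ≠ C (c i) * b)
    (hrel : Bubble.Rel (k := k) y b a) :
    ∃ (Q : F[X]) (H : σ → F[X]), (∀ i, (H i).degree < Q.degree) ∧ Q.coeff 0 = 0 ∧
      (∃ i, (H i).coeff 0 ≠ 0) ∧ Bubble.Rel (k := k) y Q (fun i => C (c i) * Q + H i) := by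
  classical
  cases nonempty_fintype σ
  let b₁ := taylor τ b
  let h := fun i => taylor τ (a i) - C (c i) * b₁
  let n := b₁.natDegree ⊔ Finset.univ.sup fun i => (h i).natDegree
  have hbn : b₁.natDegree ≤ n := le_sup_left
  have hhn : ∀ i, (h i).natDegree ≤ n := fun i =>
    le_sup_of_le_right (Finset.le_sup (f := fun i => (h i).natDegree) (Finset.mem_univ i))
  have hrn : ∀ q : F[X], (q.reflect n).coeff n = q.coeff 0 := fun q => by
    rw [coeff_reflect, revAt_le le_rfl, Nat.sub_self]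
  have hQn : (b₁.reflect n).coeff n ≠ 0 := by rw [hrn, taylor_coeff_zero]; exact hb
  have hh0 : ∀ i, (h i).coeff 0 = 0 := fun i => by
    simp [h, b₁, taylor_coeff_zero, hc]
  refine exists_marked_root y c _ (b₁.reflect n) (fun i => (h i).reflect n) le_rfl (fun i => ?_) ?_ ?_
  · refine lt_of_lt_of_le ((degree_lt_iff_coeff_zero _ n).2 fun l hl => ?_) (le_degree_of_ne_zero hQn)
    rcases eq_or_lt_of_le hl with rfl | hlt
    · rw [hrn, hh0]
    · rw [coeff_reflect, revAt_eq_self_of_lt hlt, coeff_eq_zero_of_natDegree_lt ((hhn i).trans_lt hlt)]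
  · obtain ⟨i, hi⟩ := hne
    refine ⟨i, fun h0 => hi (taylor_injective τ ?_)⟩
    rw [taylor_mul, taylor_C]
    exact sub_eq_zero.1 (reflect_eq_zero_iff.1 h0)
  · have h1 := rel_taylor y b a τ hrel
    have hGn : ∀ i, (taylor τ (a i)).natDegree ≤ n := fun i => by
      rw [show taylor τ (a i) = C (c i) * b₁ + h i by simp [h]]
      exact (natDegree_add_le _ _).trans (max_le ((natDegree_C_mul_le _ _).trans hbn) (hhn i))
    convert rel_reflect y _ _ n hbn hGn h1 using 2 with i
    rw [← reflect_C_mul, ← reflect_add]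
    congr 1
    simp [h]

end Groth.Agent.Rat1.Pencil
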