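import Groth.Agent.Rat1.Curve
import Groth.Agent.Rat1.Pencil

/-!
A rational curve through a closed point from a marked rational curve over a big field.
-/

set_option autoImplicit false
set_option backward.isDefEq.respectTransparency false
set_option backward.defeqAttrib.useBackward true

universe u

open CategoryTheory AlgebraicGeometry TopologicalSpace Polynomial

namespace Groth.Agent.Rat1.Marked

variable {k : Type u} [Field k] [IsAlgClosed k]

theorem exists_generators {A : Type u} [CommRing A] [Algebra k A] [Algebra.FiniteType k A] (ε : A →ₐ[k] k) :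
    ∃ (n : ℕ) (y : Fin n → A), Function.Surjective (MvPolynomial.aeval (R := k) y) ∧ ∀ i, ε (y i) = 0 := by
  obtain ⟨n, f, hf⟩ := Algebra.FiniteType.iff_quotient_mvPolynomial''.1 ‹Algebra.FiniteType k A›
  refine ⟨n, fun i => f (MvPolynomial.X i) - algebraMap k A (ε (f (MvPolynomial.X i))), ?_, fun i => by simp⟩
  have e : (MvPolynomial.aeval (R := k) fun i => f (MvPolynomial.X i) - algebraMap k A (ε (f (MvPolynomial.X i)))).comp
      (MvPolynomial.aeval fun i => MvPolynomial.X i + MvPolynomial.C (ε (f (MvPolynomial.X i)))) = f :=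
    MvPolynomial.algHom_ext fun i => by simp
  intro a
  obtain ⟨p, rfl⟩ := hf a
  exact ⟨_, AlgHom.congr_fun e p⟩

/-- Evaluation at a closed point of an affine open. -/
theorem exists_eval {X : Scheme.{u}} (pX : X ⟶ Spec (CommRingCat.of k)) [LocallyOfFiniteType pX]
    {U : X.Opens} (hU : IsAffineOpen U) [Algebra k Γ(X, U)]
    (hc : Spec.map (CommRingCat.ofHom (algebraMap k Γ(X, U))) = hU.fromSpec ≫ pX)
    (x : X) (hxU : x ∈ U) (hx : IsClosed ({x} : Set X)) :
    Algebra.FiniteType k Γ(X, U) ∧ ∃ ε : Γ(X, U) →ₐ[k] k,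
      ∀ p : PrimeSpectrum Γ(X, U), p.asIdeal = RingHom.ker ε → hU.fromSpec p = x := by
  have hft : Algebra.FiniteType k Γ(X, U) := by
    have : LocallyOfFiniteType (Spec.map (CommRingCat.ofHom (algebraMap k Γ(X, U)))) := by
      rw [hc]; infer_instance
    exact RingHom.finiteType_algebraMap.1 ((HasRingHomProperty.Spec_iff (P := @LocallyOfFiniteType)).1 this)
  refine ⟨hft, ?_⟩
  let p₀ := hU.primeIdealOf ⟨x, hxU⟩
  haveI hmax : p₀.asIdeal.IsMaximal := by
    rw [← PrimeSpectrum.isClosed_singleton_iff_isMaximal]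
    have : ({p₀} : Set (PrimeSpectrum Γ(X, U))) = hU.fromSpec ⁻¹' {x} := by
      ext p
      simp only [Set.mem_singleton_iff, Set.mem_preimage]
      constructor
      · rintro rfl; exact hU.fromSpec_primeIdealOf ⟨x, hxU⟩
      · intro h
        exact hU.fromSpec.isOpenEmbedding.injective (h.trans (hU.fromSpec_primeIdealOf ⟨x, hxU⟩).symm)
    rw [this]
    exact hx.preimage hU.fromSpec.continuous
  letI : Field (Γ(X, U) ⧸ p₀.asIdeal) := Ideal.Quotient.field _
  haveI : Module.Finite k (Γ(X, U) ⧸ p₀.asIdeal) := finite_of_finite_type_of_isJacobsonRing k _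
  let e : k ≃ₐ[k] Γ(X, U) ⧸ p₀.asIdeal := AlgEquiv.ofBijective (Algebra.ofId k _)
    IsAlgClosed.algebraMap_bijective_of_isIntegral
  refine ⟨e.symm.toAlgHom.comp (Ideal.Quotient.mkₐ k p₀.asIdeal), fun p hp => ?_⟩
  have : p = p₀ := by
    refine PrimeSpectrum.ext (hp.trans ?_)
    ext a
    simp [Ideal.Quotient.eq_zero_iff_mem]
  rw [this]
  exact hU.fromSpec_primeIdealOf ⟨x, hxU⟩

/-- A rational curve over a field extension, with a marked point at the generic point, gives a rational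
curve through any closed point. -/
theorem exists_curve {X : Scheme.{u}} (pX : X ⟶ Spec (CommRingCat.of k)) [IsProper pX]
    {U : X.Opens} (hU : IsAffineOpen U) [Algebra k Γ(X, U)]
    (hc : Spec.map (CommRingCat.ofHom (algebraMap k Γ(X, U))) = hU.fromSpec ≫ pX)
    (x : X) (hxU : x ∈ U) (hx : IsClosed ({x} : Set X))
    {L : Type u} [Field L] [IsAlgClosed L] [Algebra k L] (φτ : Γ(X, U) →ₐ[k] L) (hinj : Function.Injective φτ)
    (φ : Γ(X, U) →ₐ[k] RatFunc L) (τ : L)
    (hval : ∀ {n : ℕ} (y : Fin n → Γ(X, U)), ∃ (b : L[X]) (a : Fin n → L[X]), b.eval τ ≠ 0 ∧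
      ∀ i, (a i).eval τ = φτ (y i) * b.eval τ ∧
        φ (y i) = algebraMap L[X] (RatFunc L) (a i) / algebraMap L[X] (RatFunc L) b)
    (hne : ∃ z, φ z ≠ algebraMap L (RatFunc L) (φτ z)) :
    ∃ g : CohB1.ProjSpace 1 k ⟶ X, g ≫ pX = CohB1.ProjSpace.toSpec 1 k ∧
      (¬ ∃ z : X, Set.range g.base ⊆ {z}) ∧ x ∈ Set.range g.base := by
  obtain ⟨hft, ε, hεx⟩ := exists_eval pX hU hc x hxU hx
  obtain ⟨n, y, hy, hεy⟩ := exists_generators ε
  obtain ⟨b, a, hb, ha⟩ := hval y
  -- a valuation ring centred at the point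
  let S : Subring L := φτ.toRingHom.range
  let rr : Γ(X, U) →+* S := φτ.toRingHom.rangeRestrict
  have hsurj : Function.Surjective rr := φτ.toRingHom.rangeRestrict_surjective
  have hI : (RingHom.ker ε.toRingHom).map rr ≠ ⊤ := by
    intro h
    have h1 : (1 : S) ∈ (RingHom.ker ε.toRingHom).map rr := by rw [h]; trivial
    obtain ⟨z, hz, hz1⟩ := (Ideal.mem_map_iff_of_surjective rr hsurj).1 h1
    have hz' : φτ z = φτ 1 := (congrArg Subtype.val hz1).trans (map_one φτ).symm
    rw [hinj hz', RingHom.mem_ker] at hz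
    exact one_ne_zero ((map_one ε.toRingHom).symm.trans hz)
  obtain ⟨O, hSO, hIO⟩ := Ideal.image_subset_nonunits_valuationSubring _ hI
  have hkO : ∀ r : k, algebraMap k L r ∈ O := fun r => hSO ⟨algebraMap k Γ(X, U) r, φτ.commutes r⟩
  letI : Algebra k O := ((algebraMap k L).codRestrict O.toSubring hkO).toAlgebra
  haveI : IsScalarTower k O L := .of_algebraMap_eq fun r => rfl
  have hrel : Bubble.Rel (k := k) y b a := fun P hP => by
    have := congrArg φ hP
    rw [map_zero, ← AlgHom.comp_apply, MvPolynomial.comp_aeval] at this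
    simpa only [(ha _).2] using this
  have hne' : ∃ i, a i ≠ C (φτ (y i)) * b := by
    by_contra hall
    push Not at hall
    obtain ⟨z, hz⟩ := hne
    refine hz ?_
    have h : φ.comp (MvPolynomial.aeval y) =
        ((IsScalarTower.toAlgHom k L (RatFunc L)).comp φτ).comp (MvPolynomial.aeval y) :=
      MvPolynomial.algHom_ext fun i => by
        simp only [AlgHom.comp_apply, MvPolynomial.aeval_X, IsScalarTower.toAlgHom_apply]
        rw [(ha i).2, hall i, map_mul, mul_div_assoc, div_self, mul_one, RatFunc.algebraMap_C]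
        · rfl
        · exact (map_ne_zero_iff _ (RatFunc.algebraMap_injective L)).2 fun h => hb (by rw [h, eval_zero])
    obtain ⟨p, rfl⟩ := hy z
    exact AlgHom.congr_fun h p
  obtain ⟨Q, H, hH, hQ0, hH0, hrel'⟩ :=
    Pencil.exists_normal_form y b a τ (fun i => φτ (y i)) hb (fun i => (ha i).1) hne' hrel
  have hcO : ∀ i, O.valuation (φτ (y i)) < 1 := fun i =>
    (O.mem_nonunits_iff).1 (hIO ⟨rr (y i), Ideal.mem_map_of_mem _ (hεy i), rfl⟩)
  obtain ⟨D₁, G₁, hD₁, hG₁, hne₁, hr₁⟩ :=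
    Bubble.exists_bubble O y Q H (fun i => φτ (y i)) hH hQ0 hH0 hcO hrel'
  obtain ⟨D₂, G₂, hD₂, hG₂, hne₂, hr₂⟩ := Bubble.exists_specialization y D₁ G₁ hD₁ hG₁ hne₁ hr₁
  obtain ⟨D₃, G₃, hD₃, hG₃, hne₃, hr₃⟩ := Bubble.exists_reflect y D₂ G₂ hD₂ hG₂ hne₂ hr₂
  exact Curve.exists_morphism pX hU hc x ε hεx y hy hεy D₃ G₃ hD₃ hG₃ hne₃ hr₃

end Groth.Agent.Rat1.Marked
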