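import Groth.Agent.Rat1.Indeterminacy
import Groth.Agent.Curves2.ProjLineProper
import Groth.Agent.S1582

/-!
Rational curves from rational maps on a product of two smooth curves that do not extend.
-/

set_option autoImplicit false
set_option backward.isDefEq.respectTransparency false
set_option backward.defeqAttrib.useBackward true
set_option linter.style.haveILetI false

universe u

open CategoryTheory CategoryTheory.Limits AlgebraicGeometry TopologicalSpace IsLocalRing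

namespace Groth.Agent.Rat1.NotExtend

variable {k : Type u} [Field k] [IsAlgClosed k]

theorem isProper_of_projective {X : Scheme.{u}} (pX : X ⟶ Spec (CommRingCat.of k))
    (hX : ∃ (n : ℕ) (ι : X ⟶ CohB1.ProjSpace n k), IsClosedImmersion ι ∧ ι ≫ CohB1.ProjSpace.toSpec n k = pX) :
    IsProper pX := by
  obtain ⟨n, ι, hι, rfl⟩ := hX
  haveI := hι
  haveI := Curves2.ProjLine.isProper_toSpec k n
  infer_instance

theorem exists_extension {S X : Scheme.{u}} [IsIntegral S] [X.IsSeparated] (U : S.Opens) (hUd : Dense (U : Set S))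
    (φ : (U : Scheme.{u}) ⟶ X)
    (h : ∀ z : S, z ∈ (Scheme.PartialMap.toRationalMap (⟨U, hUd, φ⟩ : S.PartialMap X)).domain) :
    ∃ ψ : S ⟶ X, U.ι ≫ ψ = φ := by
  let f := (⟨U, hUd, φ⟩ : S.PartialMap X)
  have htop : f.toRationalMap.toPartialMap.domain = ⊤ := eq_top_iff.2 fun z _ => h z
  refine ⟨S.topIso.inv ≫ (S.isoOfEq htop).inv ≫ f.toRationalMap.toPartialMap.hom, ?_⟩
  have e : U.ι ≫ S.topIso.inv ≫ (S.isoOfEq htop).inv = S.homOfLE f.le_domain_toRationalMap := by
    rw [← cancel_mono f.toRationalMap.toPartialMap.domain.ι]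
    simp [← Scheme.topIso_hom, f]
    exact (Scheme.homOfLE_ι _ _).symm
  rw [reassoc_of% e]
  exact Scheme.PartialMap.toPartialMap_toRationalMap_restrict f

section product

variable {C B S X : Scheme.{u}} (pC : C ⟶ Spec (CommRingCat.of k)) (pB : B ⟶ Spec (CommRingCat.of k))
  [IsIntegral C] [IsIntegral B] [Smooth pC] [Smooth pB] [IsSeparated pC] [IsSeparated pB]
  [QuasiCompact pC] [QuasiCompact pB]
  (p₁ : S ⟶ C) (p₂ : S ⟶ B) (hP : IsPullback p₁ p₂ pC pB) (pX : X ⟶ Spec (CommRingCat.of k)) [IsProper pX]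

include hP in
omit [IsAlgClosed k] [IsIntegral C] [IsIntegral B] [IsSeparated pC] [IsSeparated pB] [QuasiCompact pC] [QuasiCompact pB] in
theorem smooth_product : Smooth (p₁ ≫ pC) := by
  haveI : Smooth p₁ := MorphismProperty.of_isPullback hP.flip ‹Smooth pB›
  infer_instance

include hP in
omit [IsAlgClosed k] [Smooth pC] [Smooth pB] [IsIntegral C] [IsIntegral B] [QuasiCompact pC] [QuasiCompact pB] in
theorem isSeparated_product : IsSeparated (p₁ ≫ pC) := by
  haveI : IsSeparated p₁ := MorphismProperty.of_isPullback hP.flip ‹IsSeparated pB›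
  infer_instance

include hP in
omit [IsAlgClosed k] [Smooth pC] [Smooth pB] [IsIntegral C] [IsIntegral B] [IsSeparated pC] [IsSeparated pB] in
theorem quasiCompact_product : QuasiCompact (p₁ ≫ pC) := by
  haveI : QuasiCompact p₁ := MorphismProperty.of_isPullback hP.flip ‹QuasiCompact pB›
  infer_instance

variable (hC : topologicalKrullDim C ≤ 1) (hB : topologicalKrullDim B ≤ 1) [IsIntegral S]
  (U : S.Opens) [Nonempty U] (hUd : Dense (U : Set S)) (φ : (U : Scheme.{u}) ⟶ X)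
  (hφ : φ ≫ pX = U.ι ≫ p₁ ≫ pC)

include hP hC hB hφ in
theorem exists_model_curves [X.IsSeparated] (z : S) (hz : IsClosed ({z} : Set S))
    (hnd : z ∉ (Scheme.PartialMap.toRationalMap (⟨U, hUd, φ⟩ : S.PartialMap X)).domain) :
    ∃ (Γ : Scheme.{u}) (q : Γ ⟶ S) (r : Γ ⟶ X) (l : (U : Scheme.{u}) ⟶ Γ),
      IsProper q ∧ JacobsonSpace Γ ∧ l ≫ q = U.ι ∧ l ≫ r = φ ∧
      (∀ γ γ' : Γ, q γ = z → q γ' = z → r γ = r γ' → γ = γ') ∧
      ∀ γ₀ : Γ, q γ₀ = z → IsClosed ({γ₀} : Set Γ) →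
        ∃ g : CohB1.ProjSpace 1 k ⟶ X, g ≫ pX = CohB1.ProjSpace.toSpec 1 k ∧
          (¬ ∃ x : X, Set.range g.base ⊆ {x}) ∧ r γ₀ ∈ Set.range g.base := by
  haveI := smooth_product pC pB p₁ p₂ hP
  haveI := isSeparated_product pC pB p₁ p₂ hP
  haveI := quasiCompact_product pC pB p₁ p₂ hP
  obtain ⟨Γ, _, q, r, l, _, hqr, hlq, hlr, _, hinj⟩ := GraphClosure.exists_model (p₁ ≫ pC) pX U φ hφ
  haveI : LocallyOfFiniteType (q ≫ p₁ ≫ pC) := inferInstance
  haveI : JacobsonSpace Γ := LocallyOfFiniteType.jacobsonSpace (q ≫ p₁ ≫ pC)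
  have h2 := SurfacePoint.exists_two_generators pC pB p₁ p₂ hP (p₁ ≫ pC) rfl
    (fun c => ⟨inferInstance, Curves2.valuationRing_stalk_of_smooth pC hC c⟩)
    (fun b => ⟨inferInstance, Curves2.valuationRing_stalk_of_smooth pB hB b⟩) z hz
  have hN : ∀ y : S, IsIntegrallyClosed (S.presheaf.stalk y) := fun y =>
    (Curves2.isIntegrallyClosed_stalk_of_smooth (p₁ ≫ pC) y).2
  exact ⟨Γ, q, r, l, inferInstance, inferInstance, hlq, hlr, hinj z hz, fun γ₀ h h' =>
    Indeterminacy.exists_curve_through (p₁ ≫ pC) pX hN U hUd φ q r l hqr hlq hlr hinj z hz hnd h2 γ₀ h h'⟩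

include hP hC hB hφ in
/-- A rational curve from a point of indeterminacy. -/
theorem exists_curve [X.IsSeparated] (z : S) (hz : IsClosed ({z} : Set S))
    (hnd : z ∉ (Scheme.PartialMap.toRationalMap (⟨U, hUd, φ⟩ : S.PartialMap X)).domain) :
    ∃ g : CohB1.ProjSpace 1 k ⟶ X, g ≫ pX = CohB1.ProjSpace.toSpec 1 k ∧
      ¬ ∃ x : X, Set.range g.base ⊆ {x} := by
  obtain ⟨Γ, q, r, l, _, _, hlq, hlr, -, hcurve⟩ := exists_model_curves pC pB p₁ p₂ hP pX hC hB U hUd φ hφ z hz hnd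
  have hη : genericPoint S ∈ U := by
    obtain ⟨u⟩ := ‹Nonempty U›
    exact (genericPoint_specializes u.1).mem_open U.2 u.2
  have hne : (q.base ⁻¹' {z}).Nonempty := by
    have hu : q (l ⟨genericPoint S, hη⟩) = genericPoint S := by
      rw [← Scheme.Hom.comp_apply, hlq]
      rfl
    obtain ⟨γ, hγ⟩ := (show q (l ⟨genericPoint S, hη⟩) ⤳ z by rw [hu]; exact genericPoint_specializes z).mem_closed
      q.isClosedMap.isClosed_range ⟨_, rfl⟩
    exact ⟨γ, hγ⟩
  obtain ⟨γ₀, hγ₀, hγ₀'⟩ := nonempty_inter_closedPoints hne (hz.preimage q.continuous).isLocallyClosed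
  obtain ⟨g, hg, hnc, -⟩ := hcurve γ₀ hγ₀ hγ₀'
  exact ⟨g, hg, hnc⟩

include hP hC hB hφ in
/-- A rational curve through the limit of the values at a point of indeterminacy. -/
theorem exists_curve_through_limit [X.IsSeparated] (z : S) (hz : IsClosed ({z} : Set S))
    (hnd : z ∉ (Scheme.PartialMap.toRationalMap (⟨U, hUd, φ⟩ : S.PartialMap X)).domain)
    (u : ↥(U : Scheme.{u})) (x : X) (hux : φ u = x) (hx : IsClosed ({x} : Set X)) (huz : U.ι u ⤳ z) :
    ∃ g : CohB1.ProjSpace 1 k ⟶ X, g ≫ pX = CohB1.ProjSpace.toSpec 1 k ∧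
      (¬ ∃ x : X, Set.range g.base ⊆ {x}) ∧ x ∈ Set.range g.base := by
  obtain ⟨Γ, q, r, l, _, _, hlq, hlr, hinj, hcurve⟩ := exists_model_curves pC pB p₁ p₂ hP pX hC hB U hUd φ hφ z hz hnd
  have hlu : q (l u) = U.ι u := by rw [← Scheme.Hom.comp_apply, hlq]
  have hru : r (l u) = x := by rw [← Scheme.Hom.comp_apply, hlr, hux]
  obtain ⟨γ₀, h, hγ₀⟩ := (hlu ▸ huz : q (l u) ⤳ z).mem_closed (q.isClosedMap _ isClosed_closure)
    ⟨l u, subset_closure (Set.mem_singleton (l u)), rfl⟩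
  have hrγ : r γ₀ = x := by
    have := (specializes_iff_mem_closure.2 h).map r.continuous
    rw [hru] at this
    exact (this.mem_closed hx rfl :)
  have hc : IsClosed ({γ₀} : Set Γ) := by
    convert (hz.preimage q.continuous).inter (hx.preimage r.continuous) using 1
    refine Set.eq_of_subset_of_subset (by rintro _ rfl; exact ⟨hγ₀, hrγ⟩) fun γ hγ => ?_
    exact hinj γ γ₀ hγ.1 hγ₀ (Eq.trans hγ.2 hrγ.symm)
  obtain ⟨g, hg, hnc, hr⟩ := hcurve γ₀ hγ₀ hc
  exact ⟨g, hg, hnc, hrγ ▸ hr⟩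

end product

end Groth.Agent.Rat1.NotExtend
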