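import Mathlib.RingTheory.Valuation.ValuationRing
import Mathlib.RingTheory.LocalRing.ResidueField.Basic
import Mathlib.FieldTheory.RatFunc.AsPolynomial
import Mathlib.FieldTheory.IsAlgClosed.Basic
import Mathlib.RingTheory.UniqueFactorizationDomain.Basic
import Mathlib.RingTheory.PrincipalIdealDomain

/-!
Quadratic transforms along a valuation: the residue field of a valuation centred at a point of a surface.
-/

set_option autoImplicit false

universe u v

open Polynomial IsLocalRing

namespace Groth.Agent.Rat1.QuadChain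

variable {k : Type u} [Field k] {V : Type v} [CommRing V] [IsDomain V] [ValuationRing V] [Algebra k V]

/-- A model with centre a point with two parameters. -/
structure TwoGen (A : Subalgebra k V) (x y : V) : Prop where
  x_mem : x ∈ A
  y_mem : y ∈ A
  x_max : x ∈ maximalIdeal V
  y_max : y ∈ maximalIdeal V
  gen : ∀ a ∈ A, ∃ c : k, ∃ p ∈ A, ∃ q ∈ A, a = algebraMap k V c + p * x + q * y
  frac : ∀ v : V, ∃ a ∈ A, ∃ b ∈ A, b ≠ 0 ∧ v * b = a

theorem TwoGen.swap {A : Subalgebra k V} {x y : V} (h : TwoGen A x y) : TwoGen A y x :=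
  ⟨h.y_mem, h.x_mem, h.y_max, h.x_max, fun a ha => by
    obtain ⟨c, p, hp, q, hq, e⟩ := h.gen a ha
    exact ⟨c, q, hq, p, hp, by rw [e]; ring⟩, h.frac⟩

theorem residue_algebraMap (c : k) :
    residue V (algebraMap k V c) = algebraMap k (ResidueField V) c := rfl

theorem exists_decomposition {A : Subalgebra k V} {x y : V} (h : TwoGen A x y) {T : V} (hT : y = x * T) :
    ∀ a ∈ Algebra.adjoin k ((A : Set V) ∪ {T}),
      ∃ f : k[X], ∃ a' ∈ Algebra.adjoin k ((A : Set V) ∪ {T}), a = aeval T f + x * a' := by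
  intro a ha
  have hA : ∀ a ∈ A, a ∈ Algebra.adjoin k ((A : Set V) ∪ {T}) := fun a ha => Algebra.subset_adjoin (.inl ha)
  have hTm : T ∈ Algebra.adjoin k ((A : Set V) ∪ {T}) := Algebra.subset_adjoin (.inr rfl)
  have hev : ∀ f : k[X], aeval T f ∈ Algebra.adjoin k ((A : Set V) ∪ {T}) := fun f =>
    Algebra.adjoin_mono (show ({T} : Set V) ⊆ (A : Set V) ∪ {T} from Set.subset_union_right) (aeval_mem_adjoin_singleton k T)
  induction ha using Algebra.adjoin_induction with
  | mem a ha =>
    rcases ha with ha | ha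
    · obtain ⟨c, p, hp, q, hq, rfl⟩ := h.gen a ha
      exact ⟨C c, p + q * T, add_mem (hA p hp) (mul_mem (hA q hq) hTm), by rw [aeval_C, hT]; ring⟩
    · rw [Set.mem_singleton_iff.1 ha]
      exact ⟨X, 0, zero_mem _, by rw [aeval_X]; ring⟩
  | algebraMap r => exact ⟨C r, 0, zero_mem _, by rw [aeval_C]; ring⟩
  | add a b _ _ iha ihb =>
    obtain ⟨f, a', ha', rfl⟩ := iha
    obtain ⟨g, b', hb', rfl⟩ := ihb
    exact ⟨f + g, a' + b', add_mem ha' hb', by rw [map_add]; ring⟩
  | mul a b _ _ iha ihb =>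
    obtain ⟨f, a', ha', rfl⟩ := iha
    obtain ⟨g, b', hb', rfl⟩ := ihb
    exact ⟨f * g, aeval T f * b' + a' * aeval T g + x * (a' * b'),
      add_mem (add_mem (mul_mem (hev f) hb') (mul_mem ha' (hev g)))
        (mul_mem (hA x h.x_mem) (mul_mem ha' hb')), by rw [map_mul]; ring⟩

variable [IsAlgClosed k] [WfDvdMonoid V]

theorem exists_hom_aux (b : V) : b ≠ 0 → ∀ (A : Subalgebra k V) (x y : V), TwoGen A x y →
    ∀ h a : V, (∀ c : k, residue V h ≠ algebraMap k (ResidueField V) c) → a ∈ A → b ∈ A → h * b = a →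
      Nonempty (ResidueField V →ₐ[k] RatFunc k) := by
  classical
  induction b using (wellFounded_dvdNotUnit (α := V)).induction with
  | h b ih =>
  intro hb A x y hA h a htr haA hbA e
  -- the residues of a and b
  obtain ⟨ca, pa, hpa, qa, hqa, ea⟩ := hA.gen a haA
  obtain ⟨cb, pb, hpb, qb, hqb, eb⟩ := hA.gen b hbA
  have hx : residue V x = 0 := (residue_eq_zero_iff _).2 hA.x_max
  have hy : residue V y = 0 := (residue_eq_zero_iff _).2 hA.y_max
  have hra : residue V a = algebraMap k (ResidueField V) ca := by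
    rw [ea]; simp [map_add, map_mul, hx, hy, residue_algebraMap]
  have hrb : residue V b = algebraMap k (ResidueField V) cb := by
    rw [eb]; simp [map_add, map_mul, hx, hy, residue_algebraMap]
  have hcb : cb = 0 := by
    by_contra hcb
    refine htr (ca / cb) ?_
    rw [map_div₀, eq_div_iff ((_root_.map_ne_zero _).2 hcb), ← hra, ← hrb, ← map_mul, e]
  have hca : ca = 0 := by
    rw [← e, map_mul, hrb, hcb, map_zero, mul_zero] at hra
    exact (map_eq_zero _).1 hra.symm
  rw [hcb, map_zero, zero_add] at eb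
  rw [hca, map_zero, zero_add] at ea
  -- choose the chart
  obtain ⟨x, y, hA, T, hT, pa, hpa, qa, hqa, pb, hpb, qb, hqb, ea, eb⟩ :
      ∃ x y, TwoGen A x y ∧ ∃ T, y = x * T ∧ ∃ pa ∈ A, ∃ qa ∈ A, ∃ pb ∈ A, ∃ qb ∈ A,
        a = pa * x + qa * y ∧ b = pb * x + qb * y := by
    rcases ValuationRing.dvd_total x y with ⟨T, hT⟩ | ⟨T, hT⟩
    · exact ⟨x, y, hA, T, hT, pa, hpa, qa, hqa, pb, hpb, qb, hqb, ea, eb⟩
    · exact ⟨y, x, hA.swap, T, hT, qa, hqa, pa, hpa, qb, hqb, pb, hpb, by rw [ea]; ring, by rw [eb]; ring⟩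
  have hx0 : x ≠ 0 := fun h0 => hb (by rw [eb, hT, h0]; ring)
  let A' := Algebra.adjoin k ((A : Set V) ∪ {T})
  have hAA : ∀ c ∈ A, c ∈ A' := fun c hc => Algebra.subset_adjoin (.inl hc)
  have hTm : T ∈ A' := Algebra.subset_adjoin (.inr rfl)
  let a₁ := pa + qa * T
  let b₁ := pb + qb * T
  have hb₁ : b₁ ≠ 0 := fun h0 => hb (by rw [eb, hT, show pb * x + qb * (x * T) = x * b₁ by simp [b₁]; ring, h0, mul_zero])
  have e₁ : h * b₁ = a₁ := mul_left_cancel₀ hx0 (by
    rw [← mul_assoc, mul_comm x h, mul_assoc, show x * b₁ = b by rw [eb, hT]; simp [b₁]; ring, e, ea, hT]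
    simp [a₁]; ring)
  have hlt : DvdNotUnit b₁ b := ⟨hb₁, x, hA.x_max, by rw [eb, hT]; simp [b₁]; ring⟩
  have hdec := exists_decomposition hA hT
  by_cases hc : ∃ c : k, residue V T = algebraMap k (ResidueField V) c
  · obtain ⟨c, hc⟩ := hc
    refine ih b₁ hlt hb₁ A' x (T - algebraMap k V c) ⟨hAA x hA.x_mem,
      sub_mem hTm (A'.algebraMap_mem c), hA.x_max, ?_, ?_, ?_⟩ h a₁ htr
      (add_mem (hAA _ hpa) (mul_mem (hAA _ hqa) hTm)) (add_mem (hAA _ hpb) (mul_mem (hAA _ hqb) hTm)) e₁
    · rw [← residue_eq_zero_iff, map_sub, hc, residue_algebraMap, sub_self]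
    · intro z hz
      obtain ⟨f, z', hz', rfl⟩ := hdec z hz
      obtain ⟨g, hg⟩ := X_sub_C_dvd_sub_C_eval (p := f) (a := c)
      refine ⟨f.eval c, z', hz', aeval T g,
        Algebra.adjoin_mono (show ({T} : Set V) ⊆ (A : Set V) ∪ {T} from Set.subset_union_right) (aeval_mem_adjoin_singleton k T), ?_⟩
      have := congrArg (aeval T) (sub_eq_iff_eq_add.1 hg)
      rw [map_add, map_mul, map_sub, aeval_C, aeval_C, aeval_X] at this
      rw [this]
      ring
    · intro v
      obtain ⟨p, hp, q, hq, hq0, hv⟩ := hA.frac v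
      exact ⟨p, hAA p hp, q, hAA q hq, hq0, hv⟩
  · -- the exceptional divisor
    push Not at hc
    let ev : k[X] →ₐ[k] ResidueField V := aeval (residue V T)
    have hres : ∀ f : k[X], residue V (aeval T f) = ev f := fun f =>
      (aeval_algHom_apply (IsScalarTower.toAlgHom k V (ResidueField V)) T f).symm
    have hinj : Function.Injective ev := by
      rw [injective_iff_map_eq_zero]
      intro f hf
      by_contra hf0
      rw [(IsAlgClosed.splits f).eq_prod_roots, map_mul, map_multiset_prod, Multiset.map_map] at hf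
      rcases mul_eq_zero.1 hf with hl | hr
      · rw [← Polynomial.algebraMap_eq, AlgHom.commutes ev f.leadingCoeff] at hl
        exact leadingCoeff_ne_zero.2 hf0 ((_root_.map_eq_zero _).1 hl)
      · obtain ⟨r, -, hr⟩ := Multiset.mem_map.1 (Multiset.prod_eq_zero_iff.1 hr)
        exact hc r (sub_eq_zero.1 (by simpa [ev] using hr))
    let m : RatFunc k →ₐ[k] ResidueField V :=
      RatFunc.liftAlgHom ev (nonZeroDivisors_le_comap_nonZeroDivisors_of_injective _ hinj)
    have hm : ∀ f : k[X], m (algebraMap k[X] (RatFunc k) f) = ev f := fun f => by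
      simpa [m] using RatFunc.liftAlgHom_apply_div ev
        (nonZeroDivisors_le_comap_nonZeroDivisors_of_injective _ hinj) f 1
    have key : ∀ q : V, q ≠ 0 → q ∈ A' → ∀ v p : V, p ∈ A' → v * q = p → residue V v ∈ m.range := by
      intro q
      induction q using (wellFounded_dvdNotUnit (α := V)).induction with
      | h q ihq =>
      intro hq0 hqA v p hpA hv
      obtain ⟨fp, p', hp', hp⟩ := hdec p hpA
      obtain ⟨fq, q', hq', hq⟩ := hdec q hqA
      have hr0 : residue V x = 0 := (residue_eq_zero_iff _).2 hA.x_max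
      have hrp : residue V p = ev fp := by rw [hp, map_add, map_mul, hr0, zero_mul, add_zero, hres]
      have hrq : residue V q = ev fq := by rw [hq, map_add, map_mul, hr0, zero_mul, add_zero, hres]
      by_cases hfq : fq = 0
      · have hfp : fp = 0 := hinj (by rw [map_zero, ← hrp, ← hv, map_mul, hrq, hfq, map_zero, mul_zero])
        rw [hfq, map_zero, zero_add] at hq
        rw [hfp, map_zero, zero_add] at hp
        have hq'0 : q' ≠ 0 := fun h0 => hq0 (by rw [hq, h0, mul_zero])
        exact ihq q' ⟨hq'0, x, hA.x_max, by rw [hq, mul_comm]⟩ hq'0 hq' v p' hp'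
          (mul_left_cancel₀ hx0 (by rw [← hp, ← hv, hq]; ring))
      · refine ⟨algebraMap k[X] (RatFunc k) fp / algebraMap k[X] (RatFunc k) fq, ?_⟩
        show m _ = _
        rw [map_div₀, hm, hm, ← hrp, ← hrq, ← hv, map_mul, mul_div_assoc, div_self, mul_one]
        rw [hrq]
        exact (map_ne_zero_iff ev hinj).2 hfq
    have hsurj : Function.Surjective m := by
      intro r
      obtain ⟨v, rfl⟩ := residue_surjective r
      obtain ⟨p, hp, q, hq, hq0, hv⟩ := hA.frac v
      exact key q hq0 (hAA q hq) v p (hAA p hp) hv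
    exact ⟨(AlgEquiv.ofBijective m ⟨m.toRingHom.injective, hsurj⟩).symm.toAlgHom⟩

/-- A valuation ring centred at a point with two parameters and transcendental residues has a purely
transcendental residue field. -/
theorem exists_hom_ratFunc {A : Subalgebra k V} {x y : V} (hA : TwoGen A x y)
    (htr : ∃ h : V, ∀ c : k, residue V h ≠ algebraMap k (ResidueField V) c) :
    Nonempty (ResidueField V →ₐ[k] RatFunc k) := by
  obtain ⟨h, hh⟩ := htr
  obtain ⟨a, ha, b, hb, hb0, e⟩ := hA.frac h
  exact exists_hom_aux b hb0 A x y hA h a hh ha hb e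

end Groth.Agent.Rat1.QuadChain
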