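import Mathlib
import Groth.Agent.Rat1.Curve
import Groth.Agent.FBase64.TensorField

/-!
Spreading a rational curve over a countable ground field.
-/

set_option autoImplicit false
set_option maxHeartbeats 1000000

universe u

open TensorProduct Polynomial

namespace Groth.Agent.Rat1.Spread

variable {K₀ k : Type u} [Field K₀] [Field k] [Algebra K₀ k]

/-- Base change of a localization of a polynomial ring along a field extension, as a subring. -/
theorem exists_baseChange_away (B₀ : Type u) [CommRing B₀] [Algebra K₀ B₀] (D₀ : B₀[X]) :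
    ∃ Ψ : k ⊗[K₀] Localization.Away D₀ →ₐ[k]
        Localization.Away (D₀.map (Algebra.TensorProduct.includeRight : B₀ →ₐ[K₀] k ⊗[K₀] B₀).toRingHom),
      Function.Injective Ψ ∧ ∀ g : B₀[X],
        Ψ ((1 : k) ⊗ₜ[K₀] IsLocalization.mk' (Localization.Away D₀) g
            (⟨D₀, Submonoid.mem_powers D₀⟩ : Submonoid.powers D₀)) *
          algebraMap (k ⊗[K₀] B₀)[X] _ (D₀.map (Algebra.TensorProduct.includeRight : B₀ →ₐ[K₀] k ⊗[K₀] B₀).toRingHom) =
        algebraMap (k ⊗[K₀] B₀)[X] _ (g.map (Algebra.TensorProduct.includeRight : B₀ →ₐ[K₀] k ⊗[K₀] B₀).toRingHom) := by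
  let ι : B₀ →ₐ[K₀] k ⊗[K₀] B₀ := Algebra.TensorProduct.includeRight
  let incl : B₀[X] →ₐ[K₀] Localization.Away (D₀.map ι.toRingHom) :=
    (IsScalarTower.toAlgHom K₀ (k ⊗[K₀] B₀)[X] (Localization.Away (D₀.map ι.toRingHom))).comp
      (Polynomial.mapAlgHom ι)
  have uI : ∀ z : Submonoid.powers D₀, IsUnit (incl z) := by
    rintro ⟨_, e, rfl⟩
    simp only [map_pow]
    exact (IsLocalization.map_units (M := Submonoid.powers (D₀.map ι.toRingHom))
      (Localization.Away (D₀.map ι.toRingHom)) ⟨D₀.map ι.toRingHom, Submonoid.mem_powers _⟩).pow e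
  let ψ₀ : Localization.Away D₀ →ₐ[K₀] Localization.Away (D₀.map ι.toRingHom) :=
    IsLocalization.liftAlgHom uI
  have hψ₀ : ∀ q : B₀[X], ψ₀ (algebraMap _ _ q) = incl q := fun q => by
    rw [IsLocalization.liftAlgHom_apply, IsLocalization.lift_eq]; rfl
  let Ψ : k ⊗[K₀] Localization.Away D₀ →ₐ[k] Localization.Away (D₀.map ι.toRingHom) :=
    Algebra.TensorProduct.lift (Algebra.ofId k _) ψ₀ fun _ _ => Commute.all _ _
  have hΨ : ∀ z, Ψ ((1 : k) ⊗ₜ[K₀] z) = ψ₀ z := fun z =>
    (Algebra.TensorProduct.lift_tmul _ _ _ _ _).trans (by rw [map_one, one_mul])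
  let toW : k ⊗[K₀] B₀ →ₐ[k] k ⊗[K₀] Localization.Away D₀ :=
    Algebra.TensorProduct.map (AlgHom.id k k) (IsScalarTower.toAlgHom K₀ B₀ (Localization.Away D₀))
  let χ₀ : (k ⊗[K₀] B₀)[X] →ₐ[k] k ⊗[K₀] Localization.Away D₀ :=
    Polynomial.aevalTower toW ((1 : k) ⊗ₜ[K₀] algebraMap B₀[X] (Localization.Away D₀) Polynomial.X)
  have hχ₀ : ∀ q : B₀[X], χ₀ (q.map ι.toRingHom) = (1 : k) ⊗ₜ[K₀] algebraMap B₀[X] (Localization.Away D₀) q := by
    have h : χ₀.toRingHom.comp (Polynomial.mapRingHom ι.toRingHom) =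
        (Algebra.TensorProduct.includeRight : Localization.Away D₀ →ₐ[K₀] k ⊗[K₀] Localization.Away D₀).toRingHom.comp
          (algebraMap B₀[X] (Localization.Away D₀)) := by
      refine Polynomial.ringHom_ext (fun b => ?_) ?_
      · simp [χ₀, toW, ι]
        rfl
      · simp [χ₀]
    exact fun q => RingHom.congr_fun h q
  have uχ : ∀ z : Submonoid.powers (D₀.map ι.toRingHom), IsUnit (χ₀ z) := by
    rintro ⟨_, e, rfl⟩
    simp only [map_pow]
    rw [hχ₀]
    exact ((IsLocalization.map_units (M := Submonoid.powers D₀) (Localization.Away D₀)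
      ⟨D₀, Submonoid.mem_powers D₀⟩).map
      (Algebra.TensorProduct.includeRight : Localization.Away D₀ →ₐ[K₀] k ⊗[K₀] Localization.Away D₀)).pow e
  let χ : Localization.Away (D₀.map ι.toRingHom) →ₐ[k] k ⊗[K₀] Localization.Away D₀ :=
    IsLocalization.liftAlgHom (M := Submonoid.powers (D₀.map ι.toRingHom)) uχ
  have h : χ.comp Ψ = AlgHom.id k _ := by
    refine Algebra.TensorProduct.ext (Subsingleton.elim _ _) ?_
    refine IsLocalization.algHom_ext (Submonoid.powers D₀) (AlgHom.ext fun q => ?_)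
    show χ (Ψ ((1 : k) ⊗ₜ[K₀] algebraMap B₀[X] (Localization.Away D₀) q)) = (1 : k) ⊗ₜ[K₀] _
    rw [hΨ, hψ₀]
    show χ (algebraMap (k ⊗[K₀] B₀)[X] _ _) = _
    rw [IsLocalization.liftAlgHom_apply, IsLocalization.lift_eq]
    exact hχ₀ q
  refine ⟨Ψ, Function.LeftInverse.injective (g := χ) fun z => AlgHom.congr_fun h z, fun g => ?_⟩
  rw [hΨ]
  show ψ₀ _ * incl D₀ = incl g
  rw [← hψ₀, ← hψ₀, ← map_mul, IsLocalization.mk'_spec _ g ⟨D₀, Submonoid.mem_powers D₀⟩]

/-- The data of a family of rational curves on an affine variety. -/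
theorem exists_family_data [IsAlgClosed K₀] {n : ℕ} {A : Type u} [CommRing A] [Algebra k A]
    (y : Fin n → A) (hy : Function.Surjective (MvPolynomial.aeval (R := k) y))
    (S : Set (MvPolynomial (Fin n) k)) (hS : RingHom.ker (MvPolynomial.aeval (R := k) y) = Ideal.span S)
    (hS₀ : ∀ P ∈ S, ∀ m, P.coeff m ∈ Set.range (algebraMap K₀ k))
    (D : k[X]) (G : Fin n → k[X]) (hD : D ≠ 0) (hrel : Bubble.Rel (k := k) y D G)
    (hinj : ∀ P₀ : MvPolynomial (Fin n) K₀,
      MvPolynomial.aeval (fun i => algebraMap k[X] (RatFunc k) (G i) / algebraMap k[X] (RatFunc k) D)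
        (MvPolynomial.map (algebraMap K₀ k) P₀) = 0 →
      MvPolynomial.aeval y (MvPolynomial.map (algebraMap K₀ k) P₀) = 0) :
    ∃ (B : Type u) (_ : CommRing B) (_ : IsDomain B) (_ : Algebra k B) (_ : Algebra.FiniteType k B)
      (DB : B[X]) (φB : A →ₐ[k] Localization.Away DB) (ρ : B →ₐ[k] k),
      DB ≠ 0 ∧ Function.Injective φB ∧ DB.map ρ.toRingHom = D ∧
      ∀ i, ∃ GB : B[X], GB.map ρ.toRingHom = G i ∧ φB (y i) * algebraMap _ _ DB = algebraMap _ _ GB := by
  classical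
  letI : Algebra K₀ A := ((algebraMap k A).comp (algebraMap K₀ k)).toAlgebra
  haveI : IsScalarTower K₀ k A := .of_algebraMap_eq fun _ => rfl
  let C₀ : Set k := ↑D.coeffs ∪ ⋃ i, ↑(G i).coeffs
  have hC₀ : C₀.Finite := D.coeffs.finite_toSet.union (Set.finite_iUnion fun i => (G i).coeffs.finite_toSet)
  let B₀ := Algebra.adjoin K₀ C₀
  haveI : Algebra.FiniteType K₀ B₀ := ⟨B₀.fg_top.2 ((Subalgebra.fg_def).2 ⟨C₀, hC₀, rfl⟩)⟩
  have hlift : ∀ q : k[X], (∀ m, q.coeff m ≠ 0 → q.coeff m ∈ C₀) → ∃ q' : B₀[X], q'.map B₀.val.toRingHom = q :=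
    fun q hq => (Polynomial.mem_lifts _).1 ((Polynomial.lifts_iff_coeff_lifts _).2 fun m => by
      by_cases h : q.coeff m = 0
      · exact ⟨0, by rw [h]; rfl⟩
      · exact ⟨⟨_, Algebra.subset_adjoin (hq m h)⟩, rfl⟩)
  obtain ⟨D₀, hD₀⟩ := hlift D fun m hm => .inl (coeff_mem_coeffs hm)
  choose G₀ hG₀ using fun i => hlift (G i) fun m hm => .inr (Set.mem_iUnion.2 ⟨i, coeff_mem_coeffs hm⟩)
  -- the localization over the countable field inside the rational functions
  let m₁ : B₀[X] →ₐ[K₀] RatFunc k :=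
    (IsScalarTower.toAlgHom K₀ k[X] (RatFunc k)).comp (Polynomial.mapAlgHom B₀.val)
  have hm₁ : ∀ q : B₀[X], m₁ q = algebraMap k[X] (RatFunc k) (q.map B₀.val.toRingHom) := fun q => rfl
  have hmD : m₁ D₀ ≠ 0 := by
    rw [hm₁, hD₀]; exact (map_ne_zero_iff _ (RatFunc.algebraMap_injective k)).2 hD
  have u₁ : ∀ z : Submonoid.powers D₀, IsUnit (m₁ z) := by
    rintro ⟨_, e, rfl⟩
    simp only [map_pow]
    exact (isUnit_iff_ne_zero.2 hmD).pow e
  let l : Localization.Away D₀ →ₐ[K₀] RatFunc k := IsLocalization.liftAlgHom u₁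
  have hl : ∀ q : B₀[X], l (algebraMap _ _ q) = m₁ q := fun q => by
    rw [IsLocalization.liftAlgHom_apply, IsLocalization.lift_eq]; rfl
  have hlinj : Function.Injective l := by
    rw [injective_iff_map_eq_zero]
    intro z hz
    obtain ⟨⟨a, s⟩, e⟩ := IsLocalization.surj (Submonoid.powers D₀) z
    have h0 : m₁ a = 0 := by rw [← hl, ← e, map_mul, hz, zero_mul]
    rw [hm₁] at h0
    have ha : a = 0 := Polynomial.map_injective _ Subtype.val_injective
      (((RatFunc.algebraMap_injective k) (h0.trans (map_zero _).symm)).trans (Polynomial.map_zero _).symm)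
    rw [show z = IsLocalization.mk' (Localization.Away D₀) a s from (IsLocalization.eq_mk'_iff_mul_eq).2 e,
      ha, IsLocalization.mk'_zero]
  let d : Submonoid.powers D₀ := ⟨D₀, Submonoid.mem_powers D₀⟩
  let q₀ : Fin n → Localization.Away D₀ := fun i => IsLocalization.mk' _ (G₀ i) d
  let qk : Fin n → RatFunc k := fun i => algebraMap k[X] (RatFunc k) (G i) / algebraMap k[X] (RatFunc k) D
  have hlq : ∀ i, l (q₀ i) = qk i := fun i => by
    rw [eq_div_iff ((map_ne_zero_iff _ (RatFunc.algebraMap_injective k)).2 hD), ← hD₀, ← hm₁, ← hl,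
      ← map_mul, IsLocalization.mk'_spec _ (G₀ i) d, hl, hm₁, hG₀]
  have hlP : ∀ P₀ : MvPolynomial (Fin n) K₀,
      l (MvPolynomial.aeval q₀ P₀) = MvPolynomial.aeval qk (MvPolynomial.map (algebraMap K₀ k) P₀) := fun P₀ => by
    rw [← AlgHom.comp_apply, MvPolynomial.comp_aeval, MvPolynomial.aeval_map_algebraMap]
    simp only [hlq]
  have hyP : ∀ P₀ : MvPolynomial (Fin n) K₀,
      MvPolynomial.aeval y P₀ = MvPolynomial.aeval y (MvPolynomial.map (algebraMap K₀ k) P₀) := fun P₀ =>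
    (MvPolynomial.aeval_map_algebraMap _ _ _).symm
  have hker : ∀ P₀ : MvPolynomial (Fin n) K₀, MvPolynomial.aeval y P₀ = 0 ↔ MvPolynomial.aeval q₀ P₀ = 0 := by
    intro P₀
    constructor
    · intro h
      apply hlinj
      rw [map_zero, hlP]
      exact hrel _ (by rw [← hyP]; exact h)
    · intro h
      rw [hyP]
      exact hinj P₀ (by rw [← hlP, h, map_zero])
  -- the model of the affine variety
  let A₀ := (MvPolynomial.aeval (R := K₀) y).range
  let π₀ : MvPolynomial (Fin n) K₀ →ₐ[K₀] A₀ := (MvPolynomial.aeval (R := K₀) y).rangeRestrict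
  have hπ₀ : Function.Surjective π₀ := (MvPolynomial.aeval (R := K₀) y).rangeRestrict_surjective
  have hkerπ : RingHom.ker π₀ ≤ RingHom.ker (MvPolynomial.aeval (R := K₀) q₀) := fun P hP => by
    rw [RingHom.mem_ker] at hP ⊢
    exact (hker P).1 (congrArg Subtype.val hP)
  let φ₀ : A₀ →ₐ[K₀] Localization.Away D₀ := (Ideal.Quotient.liftₐ _ (MvPolynomial.aeval q₀) hkerπ).comp
    (Ideal.quotientKerAlgEquivOfSurjective hπ₀).symm.toAlgHom
  have hφ₀ : ∀ P, φ₀ (π₀ P) = MvPolynomial.aeval q₀ P := fun P => by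
    have e : (Ideal.quotientKerAlgEquivOfSurjective hπ₀).symm (π₀ P) = Ideal.Quotient.mk _ P := by
      rw [AlgEquiv.symm_apply_eq]
      simp
    rw [AlgHom.comp_apply]
    erw [e, Ideal.Quotient.liftₐ_apply, Ideal.Quotient.lift_mk]
  have hφ₀inj : Function.Injective φ₀ := by
    rw [injective_iff_map_eq_zero]
    intro a ha
    obtain ⟨P, rfl⟩ := hπ₀ a
    rw [hφ₀] at ha
    exact Subtype.ext ((hker P).2 ha)
  -- base change to the big field
  let B := k ⊗[K₀] B₀
  haveI : IsDomain B := FBase64.isDomain_tensor_of_isAlgClosed K₀ k B₀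
  let DB : B[X] := D₀.map (Algebra.TensorProduct.includeRight : B₀ →ₐ[K₀] B).toRingHom
  let ρ : B →ₐ[k] k := Algebra.TensorProduct.lift (AlgHom.id k k) B₀.val fun _ _ => Commute.all _ _
  have hρ : ∀ q : B₀[X], (q.map (Algebra.TensorProduct.includeRight : B₀ →ₐ[K₀] B).toRingHom).map ρ.toRingHom =
      q.map B₀.val.toRingHom := fun q => by
    rw [Polynomial.map_map]
    congr 1
    refine RingHom.ext fun b => ?_
    show ρ ((1 : k) ⊗ₜ[K₀] b) = (b : k)
    exact (Algebra.TensorProduct.lift_tmul _ _ _ _ _).trans (by simp)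
  have hDB : DB ≠ 0 := fun h => hD (by rw [← hD₀, ← hρ, show D₀.map _ = (0 : B[X]) from h, Polynomial.map_zero])
  obtain ⟨Ψ, hΨinj, hΨ⟩ := exists_baseChange_away (K₀ := K₀) (k := k) B₀ D₀
  let ψ₀ : Localization.Away D₀ →ₐ[K₀] Localization.Away DB :=
    (Ψ.restrictScalars K₀).comp Algebra.TensorProduct.includeRight
  let qB : Fin n → Localization.Away DB := fun i => ψ₀ (q₀ i)
  -- the map out of the affine variety
  have hkerB : RingHom.ker (MvPolynomial.aeval (R := k) y) ≤ RingHom.ker (MvPolynomial.aeval (R := k) qB) := by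
    rw [hS, Ideal.span_le]
    intro P hP
    obtain ⟨P₀, rfl⟩ : ∃ P₀ : MvPolynomial (Fin n) K₀, MvPolynomial.map (algebraMap K₀ k) P₀ = P := by
      rw [← Set.mem_range, MvPolynomial.mem_range_map_iff_coeffs_subset]
      intro c hc
      obtain ⟨m, -, rfl⟩ := MvPolynomial.mem_coeffs_iff.1 hc
      exact hS₀ P hP m
    have h1 : MvPolynomial.map (algebraMap K₀ k) P₀ ∈ RingHom.ker (MvPolynomial.aeval (R := k) y) := by
      rw [hS]; exact Ideal.subset_span hP
    rw [RingHom.mem_ker, ← hyP, hker] at h1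
    rw [SetLike.mem_coe, RingHom.mem_ker, MvPolynomial.aeval_map_algebraMap]
    have h2 := congrArg ψ₀ h1
    rw [map_zero, ← AlgHom.comp_apply, MvPolynomial.comp_aeval] at h2
    exact h2
  let φB : A →ₐ[k] Localization.Away DB := (Ideal.Quotient.liftₐ _ (MvPolynomial.aeval qB) hkerB).comp
    (Ideal.quotientKerAlgEquivOfSurjective hy).symm.toAlgHom
  have hφB : ∀ P, φB (MvPolynomial.aeval y P) = MvPolynomial.aeval qB P := fun P => by
    have e : (Ideal.quotientKerAlgEquivOfSurjective hy).symm (MvPolynomial.aeval y P) = Ideal.Quotient.mk _ P := by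
      rw [AlgEquiv.symm_apply_eq]
      simp
    rw [AlgHom.comp_apply]
    erw [e, Ideal.Quotient.liftₐ_apply, Ideal.Quotient.lift_mk]
  let π : k ⊗[K₀] A₀ →ₐ[k] A := Algebra.TensorProduct.lift (Algebra.ofId k A) A₀.val fun _ _ => Commute.all _ _
  let Φ : k ⊗[K₀] A₀ →ₐ[k] k ⊗[K₀] Localization.Away D₀ := Algebra.TensorProduct.map (AlgHom.id k k) φ₀
  have hΦ : Function.Injective Φ :=
    Module.Flat.lTensor_preserves_injective_linearMap (M := k) φ₀.toLinearMap hφ₀inj
  have hcomp : ∀ z, φB (π z) = Ψ (Φ z) := by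
    have h : φB.comp π = Ψ.comp Φ := by
      refine Algebra.TensorProduct.ext (Subsingleton.elim _ _) (AlgHom.ext fun a => ?_)
      obtain ⟨P, rfl⟩ := hπ₀ a
      show φB (π ((1 : k) ⊗ₜ[K₀] π₀ P)) = Ψ (Φ ((1 : k) ⊗ₜ[K₀] π₀ P))
      simp only [π, Φ, Algebra.TensorProduct.lift_tmul, Algebra.TensorProduct.map_tmul, map_one, one_mul,
        AlgHom.id_apply, hφ₀]
      show φB (MvPolynomial.aeval y P) = ψ₀ (MvPolynomial.aeval q₀ P)
      rw [hyP, hφB, MvPolynomial.aeval_map_algebraMap, ← AlgHom.comp_apply ψ₀, MvPolynomial.comp_aeval]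
    exact fun z => AlgHom.congr_fun h z
  refine ⟨B, inferInstance, inferInstance, inferInstance, inferInstance, DB, φB, ρ, hDB, ?_, ?_, fun i =>
    ⟨_, (hρ _).trans (hG₀ i), ?_⟩⟩
  · rw [injective_iff_map_eq_zero]
    intro a ha
    have hπs : Function.Surjective π := by
      intro b
      obtain ⟨P, rfl⟩ := hy b
      have : (MvPolynomial.aeval (R := k) y P) ∈ π.range := by
        induction P using MvPolynomial.induction_on with
        | C c => exact ⟨c ⊗ₜ[K₀] 1, by simp [π]⟩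
        | add p q hp hq => rw [map_add]; exact add_mem hp hq
        | mul_X p i hp =>
          rw [map_mul, MvPolynomial.aeval_X]
          exact mul_mem hp ⟨(1 : k) ⊗ₜ[K₀] π₀ (MvPolynomial.X i), by simp [π, π₀]⟩
      exact this
    obtain ⟨z, rfl⟩ := hπs a
    rw [hcomp] at ha
    have hz : Φ z = 0 := hΨinj (ha.trans (map_zero _).symm)
    rw [hΦ (hz.trans (map_zero _).symm), map_zero]
  · exact (hρ _).trans hD₀
  · have := hφB (MvPolynomial.X i)
    rw [MvPolynomial.aeval_X, MvPolynomial.aeval_X] at this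
    rw [this]
    exact hΨ (G₀ i)

end Groth.Agent.Rat1.Spread
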