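import Mathlib

/-!
Scales at which finitely many coefficient families of smaller degree catch up with a leading one,
in an algebraically closed valued field.
-/

set_option autoImplicit false

universe u v w

namespace Groth.Agent.Rat1.Tropical

variable {Ω : Type u} [Field Ω] [IsAlgClosed Ω] {Γ₀ : Type v} [LinearOrderedCommGroupWithZero Γ₀]
  (v : Valuation Ω Γ₀) {ι : Type w}

theorem mul_pow_le_of_le {a h s t : Γ₀} {j l : ℕ} (hjl : j ≤ l) (hs : s ≠ 0) (hst : s ≤ t)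
    (hle : a * s ^ j ≤ h * s ^ l) : a * t ^ j ≤ h * t ^ l := by
  refine le_of_mul_le_mul_left ?_ (pow_pos (zero_lt_iff.2 hs) j)
  calc s ^ j * (a * t ^ j) = a * s ^ j * t ^ j := by rw [mul_comm (s ^ j), mul_right_comm]
    _ ≤ h * s ^ l * t ^ j := mul_le_mul' hle le_rfl
    _ = s ^ j * (h * (s ^ (l - j) * t ^ j)) := by
      rw [show s ^ l = s ^ (l - j) * s ^ j by rw [← pow_add, Nat.sub_add_cancel hjl]]
      ac_rfl
    _ ≤ s ^ j * (h * (t ^ (l - j) * t ^ j)) := by gcongr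
    _ = s ^ j * (h * t ^ l) := by rw [← pow_add, Nat.sub_add_cancel hjl]

theorem exists_scale [Finite ι] (d : ℕ) (a : ℕ → Ω) (h : ι → ℕ → Ω) (had : a d ≠ 0) (ha0 : a 0 = 0)
    (haz : ∀ j, d < j → a j = 0) (hhz : ∀ i l, d ≤ l → h i l = 0) (h0 : ∃ i, h i 0 ≠ 0) :
    ∃ (s c : Ω) (j : ℕ), s ≠ 0 ∧ c ≠ 0 ∧ (∀ n, v (a n * s ^ n / c) ≤ 1) ∧
      (∀ i n, v (h i n * s ^ n / c) ≤ 1) ∧ v (a j * s ^ j / c) = 1 ∧ (∀ n, j < n → v (a n * s ^ n / c) < 1) ∧
      (∀ i n, j ≤ n → v (h i n * s ^ n / c) < 1) ∧ ∃ i n, v (h i n * s ^ n / c) = 1 := by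
  classical
  cases nonempty_fintype ι
  -- the largest scale at which a given term dominates the higher coefficients
  have hu : ∀ p : ι × Fin d, h p.1 p.2 ≠ 0 → ∃ s : Ω, s ≠ 0 ∧
      (∀ j, (p.2 : ℕ) < j → v (a j * s ^ j) ≤ v (h p.1 p.2 * s ^ (p.2 : ℕ))) ∧
      (∃ j, (p.2 : ℕ) < j ∧ v (a j * s ^ j) = v (h p.1 p.2 * s ^ (p.2 : ℕ))) ∧
      ∀ t : Ω, t ≠ 0 → (∀ j, (p.2 : ℕ) < j → v (a j * t ^ j) < v (h p.1 p.2 * t ^ (p.2 : ℕ))) →
        v t < v s := by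
    intro p hp
    let J := (Finset.range (d + 1)).filter fun j => (p.2 : ℕ) < j ∧ a j ≠ 0
    have hJ : J.Nonempty := ⟨d, Finset.mem_filter.2 ⟨Finset.self_mem_range_succ d, p.2.2, had⟩⟩
    have hroot : ∀ j : ℕ, ∃ s : Ω, j ∈ J → a j * s ^ j = h p.1 p.2 * s ^ (p.2 : ℕ) ∧ s ≠ 0 := fun j => by
      by_cases hj : j ∈ J
      · obtain ⟨-, hlj, haj⟩ := Finset.mem_filter.1 hj
        obtain ⟨z, hz⟩ := IsAlgClosed.exists_pow_nat_eq (h p.1 p.2 / a j) (Nat.sub_pos_of_lt hlj)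
        have hz0 : z ≠ 0 := by
          rintro rfl
          rw [zero_pow (Nat.sub_pos_of_lt hlj).ne', eq_comm, div_eq_zero_iff] at hz
          exact hz.elim hp haj
        refine ⟨z, fun _ => ⟨?_, hz0⟩⟩
        rw [show z ^ j = z ^ (j - (p.2 : ℕ)) * z ^ (p.2 : ℕ) by rw [← pow_add, Nat.sub_add_cancel hlj.le],
          ← mul_assoc, hz, mul_div_cancel₀ _ haj]
      · exact ⟨1, fun h => absurd h hj⟩
    choose z hz using hroot
    obtain ⟨j₀, hj₀, hmin⟩ := J.exists_min_image (fun j => v (z j)) hJ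
    have hl₀ := (Finset.mem_filter.1 hj₀).2.1
    refine ⟨z j₀, (hz j₀ hj₀).2, fun j hj => ?_, ⟨j₀, hl₀, congrArg v (hz j₀ hj₀).1⟩, fun t ht hlt => ?_⟩
    · by_cases hjJ : j ∈ J
      · have e := congrArg v (hz j hjJ).1
        simp only [map_mul, map_pow] at e ⊢
        have hs0 : v (z j₀) ≠ 0 := v.ne_zero_iff.2 (hz j₀ hj₀).2
        have hs1 : v (z j) ≠ 0 := v.ne_zero_iff.2 (hz j hjJ).2
        have ea : v (a j) * v (z j) ^ (j - (p.2 : ℕ)) = v (h p.1 p.2) := by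
          refine mul_right_cancel₀ (pow_ne_zero (p.2 : ℕ) hs1) ?_
          rw [mul_assoc, ← pow_add, Nat.sub_add_cancel hj.le, e]
        rw [show v (z j₀) ^ j = v (z j₀) ^ (j - (p.2 : ℕ)) * v (z j₀) ^ (p.2 : ℕ) by
          rw [← pow_add, Nat.sub_add_cancel hj.le], ← mul_assoc]
        rw [← ea]
        gcongr
        exact hmin j hjJ
      · have : a j = 0 := by
          by_contra hne
          exact hjJ (Finset.mem_filter.2 ⟨Finset.mem_range.2 (Nat.lt_succ_of_le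
            (not_lt.1 fun h' => hne (haz j h'))), hj, hne⟩)
        simp [this]
    · by_contra hle
      rw [not_lt] at hle
      have e := congrArg v (hz j₀ hj₀).1
      have hlt' := hlt j₀ hl₀
      simp only [map_mul, map_pow] at e hlt'
      exact (not_lt.2 (mul_pow_le_of_le hl₀.le (v.ne_zero_iff.2 (hz j₀ hj₀).2) hle e.ge)) hlt'
  choose sc hsc0 hscle hsceq hscmax using hu
  let P := {p : {p : ι × Fin d // h p.1 p.2 ≠ 0} // ∀ j, j ≤ (p.1.2 : ℕ) →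
    v (a j * sc p.1 p.2 ^ j) ≤ v (h p.1.1 p.1.2 * sc p.1 p.2 ^ (p.1.2 : ℕ))}
  obtain ⟨i₀, hi₀⟩ := h0
  have hd : 0 < d := Nat.pos_of_ne_zero fun h => had (h ▸ ha0)
  haveI : Nonempty P := ⟨⟨⟨(i₀, ⟨0, hd⟩), hi₀⟩, fun j hj => by
    obtain rfl : j = 0 := Nat.le_zero.1 hj
    simp [ha0]⟩⟩
  obtain ⟨⟨⟨⟨i₁, l₁⟩, hne⟩, hgood⟩, hmaxP⟩ := Finite.exists_max (fun q : P => v (sc q.1.1 q.1.2))
  let s := sc (i₁, l₁) hne
  have hs0 : s ≠ 0 := hsc0 _ hne
  let c := h i₁ l₁ * s ^ (l₁ : ℕ)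
  have hc : c ≠ 0 := mul_ne_zero hne (pow_ne_zero _ hs0)
  have hvc : 0 < v c := zero_lt_iff.2 (v.ne_zero_iff.2 hc)
  obtain ⟨j₀, hlj₀, hj₀⟩ := hsceq _ hne
  have haA : ∀ n, v (a n * s ^ n) ≤ v c := fun n =>
    (le_or_gt n (l₁ : ℕ)).elim (fun hn => hgood n hn) (fun hn => hscle _ hne n hn)
  -- no term can reach the top unless a higher coefficient does
  have key : ∀ i (l : Fin d), v c ≤ v (h i l * s ^ (l : ℕ)) →
      ∃ j, (l : ℕ) < j ∧ v (h i l * s ^ (l : ℕ)) ≤ v (a j * s ^ j) := by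
    intro i l hl
    by_contra hcon
    push Not at hcon
    have hne' : h i l ≠ 0 := fun h0' => by simp [h0', hvc.ne'] at hl
    have hlt : v s < v (sc (i, l) hne') := hscmax (i, l) hne' s hs0 hcon
    refine absurd (hmaxP ⟨⟨(i, l), hne'⟩, fun j hj => ?_⟩) (not_le.2 hlt)
    have h1 : v (a j * s ^ j) ≤ v (h i l * s ^ (l : ℕ)) := (haA j).trans hl
    simp only [map_mul, map_pow] at h1 ⊢
    exact mul_pow_le_of_le hj (v.ne_zero_iff.2 hs0) hlt.le h1
  have hhA : ∀ i n, v (h i n * s ^ n) ≤ v c := fun i n => by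
    rcases lt_or_ge n d with hn | hn
    · by_contra hgt
      rw [not_le] at hgt
      obtain ⟨j, -, hj⟩ := key i ⟨n, hn⟩ hgt.le
      exact absurd ((hj.trans (haA j)).trans_lt hgt) (lt_irrefl _)
    · simp [hhz i n hn]
  -- the highest coefficient reaching the top
  let T := (Finset.range (d + 1)).filter fun j => v (a j * s ^ j) = v c
  have hmemT : ∀ j, v (a j * s ^ j) = v c → j ∈ T := fun j hj => by
    refine Finset.mem_filter.2 ⟨Finset.mem_range.2 (Nat.lt_succ_of_le (not_lt.1 fun h' => ?_)), hj⟩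
    rw [haz j h', zero_mul, map_zero] at hj
    exact hvc.ne hj
  have hT : T.Nonempty := ⟨j₀, hmemT j₀ hj₀⟩
  obtain ⟨j, hjT, hjmax⟩ := T.exists_max_image id hT
  have hjv : v (a j * s ^ j) = v c := (Finset.mem_filter.1 hjT).2
  have hdiv : ∀ x : Ω, v x ≤ v c → v (x / c) ≤ 1 := fun x hx => by
    rw [map_div₀]; exact div_le_one_of_le₀ hx zero_le
  have hdiv' : ∀ x : Ω, v x < v c → v (x / c) < 1 := fun x hx => by
    rw [map_div₀, div_lt_one₀ hvc]; exact hx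
  refine ⟨s, c, j, hs0, hc, fun n => hdiv _ (haA n), fun i n => hdiv _ (hhA i n), ?_, fun n hn => ?_,
    fun i n hn => ?_, i₁, l₁, ?_⟩
  · rw [map_div₀, hjv, div_self hvc.ne']
  · refine hdiv' _ (lt_of_le_of_ne (haA n) fun he => absurd (hjmax n (hmemT n he)) ?_)
    exact not_le.2 hn
  · refine hdiv' _ (lt_of_le_of_ne (hhA i n) fun he => ?_)
    rcases lt_or_ge n d with hnd | hnd
    · obtain ⟨j', hj', hle⟩ := key i ⟨n, hnd⟩ he.ge
      have := hjmax j' (hmemT j' (le_antisymm (haA j') (he.ge.trans hle)))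
      exact absurd (this.trans hn) (not_le.2 hj')
    · rw [hhz i n hnd, zero_mul, map_zero] at he
      exact hvc.ne he
  · rw [map_div₀]
    exact div_self hvc.ne'

end Groth.Agent.Rat1.Tropical
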