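import Groth.Agent.Rat1.Uniruled
import Groth.Agent.Rat1.Spread
import Groth.Agent.Rat1.CountableBase

/-!
Over an uncountable field, rational curves through all closed points of an open set give uniruledness.
-/

set_option autoImplicit false
set_option backward.isDefEq.respectTransparency false
set_option backward.defeqAttrib.useBackward true

universe u

open CategoryTheory CategoryTheory.Limits AlgebraicGeometry TopologicalSpace Polynomial

namespace Groth.Agent.Rat1.UncountableUniruled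

variable {k : Type u} [Field k] [IsAlgClosed k]

theorem isUniruled_of_data {X : Scheme.{u}} (pX : X ⟶ Spec (CommRingCat.of k)) [IsIntegral X]
    {U : X.Opens} (hU : IsAffineOpen U) [Nonempty U] [Algebra k Γ(X, U)]
    (hc : Spec.map (CommRingCat.ofHom (algebraMap k Γ(X, U))) = hU.fromSpec ≫ pX)
    {B : Type u} [CommRing B] [IsDomain B] [Algebra k B] [Algebra.FiniteType k B] (DB : B[X]) (hDB : DB ≠ 0)
    (φB : Γ(X, U) →ₐ[k] Localization.Away DB) (hinj : Function.Injective φB) (ρ : B →ₐ[k] k) (a b : k)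
    (ha : (DB.map ρ.toRingHom).eval a ≠ 0) (hb : (DB.map ρ.toRingHom).eval b ≠ 0)
    (hdiff : ∀ (εa εb : Localization.Away DB →ₐ[k] k),
      (∀ p : B[X], εa (algebraMap _ _ p) = (p.map ρ.toRingHom).eval a) →
      (∀ p : B[X], εb (algebraMap _ _ p) = (p.map ρ.toRingHom).eval b) → εa.comp φB ≠ εb.comp φB) :
    MorSch.IsUniruled k pX := by
  let q : Spec (CommRingCat.of B) ⟶ Spec (CommRingCat.of k) := Spec.map (CommRingCat.ofHom (algebraMap k B))
  haveI : LocallyOfFiniteType q := (HasRingHomProperty.Spec_iff (P := @LocallyOfFiniteType)).2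
    (RingHom.finiteType_algebraMap.2 inferInstance)
  haveI : IsDomain (CommRingCat.of B) := ‹IsDomain B›
  have hvar : MorSch.IsVar k q := ⟨inferInstance, inferInstance, inferInstance, inferInstance⟩
  obtain ⟨j, hjo, -, hjs, hjq⟩ := Chart.exists_chart q (𝟙 _) (Category.id_comp _)
  haveI := hjo
  let qP := CohB1.ProjSpace.toSpec 1 k
  haveI : IrreducibleSpace ↥(pullback qP q) := Chart.irreducibleSpace_prod q
  let Lc := Localization.Away DB
  let loc : Spec (CommRingCat.of Lc) ⟶ Spec (CommRingCat.of B[X]) := Spec.map (CommRingCat.ofHom (algebraMap B[X] Lc))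
  haveI : IsOpenImmersion loc := IsOpenImmersion.of_isLocalization DB
  let jl := loc ≫ j
  haveI : IsDomain Lc :=
    IsLocalization.isDomain_of_le_nonZeroDivisors (R := B[X]) Lc (M := Submonoid.powers DB)
      (powers_le_nonZeroDivisors_of_noZeroDivisors hDB)
  let bot : Spec (CommRingCat.of Lc) := (⟨⊥, Ideal.isPrime_bot⟩ : PrimeSpectrum Lc)
  let h : Spec (CommRingCat.of Lc) ⟶ X := Spec.map (CommRingCat.ofHom φB.toRingHom) ≫ hU.fromSpec
  have hh : h ≫ pX = jl ≫ pullback.fst qP q ≫ qP := by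
    simp only [h, jl, Category.assoc, ← hc, pullback.condition]
    rw [hjq, ← Spec.map_comp, ← Spec.map_comp, ← CommRingCat.ofHom_comp, ← CommRingCat.ofHom_comp]
    congr 2
    refine RingHom.ext fun r => ?_
    exact (φB.commutes r).trans (IsScalarTower.algebraMap_apply k B[X] Lc r)
  let iso := jl.isoOpensRange
  let F : MorSch.RatFam k pX :=
    { M := Spec (CommRingCat.of B)
      m := q
      isVar := hvar
      e := { domain := jl.opensRange
             dense_domain := jl.opensRange.isOpen.dense ⟨jl bot, bot, rfl⟩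
             hom := iso.inv ≫ h }
      comm := by
        show (iso.inv ≫ h) ≫ pX = jl.opensRange.ι ≫ pullback.fst qP q ≫ qP
        rw [Category.assoc, hh, ← Category.assoc, Scheme.Hom.isoOpensRange_inv_comp] }
  have hbot : h bot = genericPoint X := by
    haveI : IsDomain Γ(X, U) := inferInstance
    refine (Scheme.Hom.comp_apply _ _ _).trans ?_
    rw [← Chart.image_bot_of_isOpenImmersion hU.fromSpec]
    congr 1
    refine PrimeSpectrum.ext ?_
    show Ideal.comap φB.toRingHom ⊥ = ⊥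
    rw [← RingHom.ker_eq_comap_bot]
    exact (RingHom.injective_iff_ker_eq_bot _).1 hinj
  have hiso : ∀ z, F.e.hom (iso.hom z) = h z := fun z => by
    show (iso.inv ≫ h) (iso.hom z) = h z
    rw [← Scheme.Hom.comp_apply, Iso.hom_inv_id_assoc]
  refine ⟨F, (isDominant_iff _).2 ?_, ?_⟩
  · intro w
    refine closure_mono (Set.singleton_subset_iff.2 (Set.mem_range.2 ⟨iso.hom bot, hiso bot⟩)) ?_
    rw [hbot]
    exact (genericPoint_specializes w).mem_closure
  · let χ : k → B[X] →ₐ[k] k := fun c => Polynomial.aevalTower ρ c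
    have hχ : ∀ c (p : B[X]), χ c p = (p.map ρ.toRingHom).eval c := fun c p => by
      rw [Polynomial.eval_map]
      rfl
    have hu : ∀ c, (DB.map ρ.toRingHom).eval c ≠ 0 → ∀ z : Submonoid.powers DB, IsUnit (χ c z) := by
      rintro c hc' ⟨_, e, rfl⟩
      simp only [map_pow]
      rw [hχ]
      exact (isUnit_iff_ne_zero.2 hc').pow e
    let εa : Lc →ₐ[k] k := IsLocalization.liftAlgHom (hu a ha)
    let εb : Lc →ₐ[k] k := IsLocalization.liftAlgHom (hu b hb)
    have hεa : ∀ p : B[X], εa (algebraMap _ _ p) = (p.map ρ.toRingHom).eval a := fun p => by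
      rw [← hχ, IsLocalization.liftAlgHom_apply, IsLocalization.lift_eq]; rfl
    have hεb : ∀ p : B[X], εb (algebraMap _ _ p) = (p.map ρ.toRingHom).eval b := fun p => by
      rw [← hχ, IsLocalization.liftAlgHom_apply, IsLocalization.lift_eq]; rfl
    let pt : Spec (CommRingCat.of k) := (⟨⊥, Ideal.isPrime_bot⟩ : PrimeSpectrum k)
    let za := Spec.map (CommRingCat.ofHom εa.toRingHom) pt
    let zb := Spec.map (CommRingCat.ofHom εb.toRingHom) pt
    have htoM : ∀ (ε : Lc →ₐ[k] k) (c : k), (∀ p : B[X], ε (algebraMap _ _ p) = (p.map ρ.toRingHom).eval c) →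
        F.toM (iso.hom (Spec.map (CommRingCat.ofHom ε.toRingHom) pt)) =
          Spec.map (CommRingCat.ofHom ρ.toRingHom) pt := fun ε c hε => by
      show (jl.opensRange.ι ≫ pullback.snd qP q) (iso.hom _) = _
      rw [← Scheme.Hom.comp_apply, ← Category.assoc, Scheme.Hom.isoOpensRange_hom_ι, ← Scheme.Hom.comp_apply]
      refine congrArg (fun (f : Spec (CommRingCat.of k) ⟶ Spec (CommRingCat.of B)) => f pt) ?_
      simp only [jl, Category.assoc]
      erw [hjs, Category.comp_id]
      simp only [loc, ← Spec.map_comp, ← CommRingCat.ofHom_comp]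
      congr 2
      refine RingHom.ext fun r => ?_
      show ε (algebraMap B[X] Lc (Polynomial.C r)) = ρ r
      rw [hε]
      simp
    refine ⟨iso.hom za, iso.hom zb, (htoM εa a hεa).trans (htoM εb b hεb).symm, fun heq => ?_⟩
    have h1 : h za = h zb := by rw [← hiso, ← hiso]; exact heq
    have h2 := hU.fromSpec.isOpenEmbedding.injective
      ((Scheme.Hom.comp_apply _ _ _).symm.trans (h1.trans (Scheme.Hom.comp_apply _ _ _)))
    have h3 : RingHom.ker (εa.comp φB) = RingHom.ker (εb.comp φB) := congrArg PrimeSpectrum.asIdeal h2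
    refine hdiff εa εb hεa hεb (AlgHom.ext fun r => ?_)
    have h4 : r - algebraMap k _ ((εb.comp φB) r) ∈ RingHom.ker (εa.comp φB) := by
      rw [h3, RingHom.mem_ker, map_sub, AlgHom.commutes, Algebra.algebraMap_self_apply, sub_self]
    rw [RingHom.mem_ker, map_sub, AlgHom.commutes, Algebra.algebraMap_self_apply, sub_eq_zero] at h4
    exact h4

theorem isUniruled [Uncountable k] {X : Scheme.{u}} (pX : X ⟶ Spec (CommRingCat.of k)) [IsIntegral X]
    [LocallyOfFiniteType pX] (U : X.Opens) (hU : (U : Set X).Nonempty)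
    (h : ∀ x ∈ (U : Set X), IsClosed ({x} : Set X) → ∃ g : CohB1.ProjSpace 1 k ⟶ X,
      g ≫ pX = CohB1.ProjSpace.toSpec 1 k ∧ (¬ ∃ y : X, Set.range g.base ⊆ {y}) ∧ x ∈ Set.range g.base) :
    MorSch.IsUniruled k pX := by
  classical
  obtain ⟨u₀, hu₀⟩ := hU
  obtain ⟨U₁, hU₁, hu₁, hU₁U⟩ := exists_isAffineOpen_mem_and_subset (U := U) (x := u₀) hu₀
  haveI : Nonempty U₁ := ⟨⟨u₀, hu₁⟩⟩
  letI : X.Over (Spec (CommRingCat.of k)) := ⟨pX⟩
  letI : Algebra k Γ(X, U₁) := (Var76.BertiniScheme.const (k := k) X U₁).toAlgebra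
  have hc : Spec.map (CommRingCat.ofHom (algebraMap k Γ(X, U₁))) = hU₁.fromSpec ≫ pX :=
    Var76.BertiniScheme.SpecMap_const hU₁
  haveI : IsDomain Γ(X, U₁) := inferInstance
  haveI hft : Algebra.FiniteType k Γ(X, U₁) := by
    have : LocallyOfFiniteType (Spec.map (CommRingCat.ofHom (algebraMap k Γ(X, U₁)))) := by
      rw [hc]; infer_instance
    exact RingHom.finiteType_algebraMap.1 ((HasRingHomProperty.Spec_iff (P := @LocallyOfFiniteType)).1 this)
  obtain ⟨n, f, hf⟩ := Algebra.FiniteType.iff_quotient_mvPolynomial''.1 hft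
  let y : Fin n → Γ(X, U₁) := fun i => f (MvPolynomial.X i)
  have hyf : MvPolynomial.aeval (R := k) y = f := (MvPolynomial.aeval_unique f).symm
  have hy : Function.Surjective (MvPolynomial.aeval (R := k) y) := hyf ▸ hf
  obtain ⟨S, hS⟩ := (RingHom.ker (MvPolynomial.aeval (R := k) y)).fg_of_isNoetherianRing
  obtain ⟨K₀, _, _, hK₀, hK₀c, hT⟩ :=
    CountableBase.exists_countable_isAlgClosed (⋃ P ∈ S, (↑P.coeffs : Set k))
      (Set.Countable.biUnion S.countable_toSet fun P _ => P.coeffs.countable_toSet)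
  have hS₀ : ∀ P ∈ (S : Set (MvPolynomial (Fin n) k)), ∀ e, P.coeff e ∈ Set.range (algebraMap K₀ k) := by
    intro P hP e
    by_cases he : P.coeff e = 0
    · exact ⟨0, by rw [he, map_zero]⟩
    · exact hT (Set.mem_biUnion hP (MvPolynomial.coeff_mem_coeffs e he))
  let ev₀ : MvPolynomial (Fin n) K₀ → Γ(X, U₁) := fun P₀ =>
    MvPolynomial.aeval y (MvPolynomial.map (algebraMap K₀ k) P₀)
  haveI : Countable (MvPolynomial (Fin n) K₀) := Cardinal.mk_le_aleph0_iff.1
    ((MvPolynomial.cardinalMk_le_max_lift (σ := Fin n) (R := K₀)).trans (by simp))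
  obtain ⟨m, hm, hmT⟩ := CountableBase.exists_maximal_avoiding (k := k) (Set.range ev₀) (Set.countable_range _)
  let pm : PrimeSpectrum Γ(X, U₁) := ⟨m, hm.isPrime⟩
  let x := hU₁.fromSpec pm
  have hxU₁ : x ∈ U₁ := by
    rw [← SetLike.mem_coe, ← hU₁.range_fromSpec]; exact ⟨pm, rfl⟩
  have hxc : IsClosed ({x} : Set X) := by
    haveI := LocallyOfFiniteType.jacobsonSpace pX
    refine isClosed_singleton_of_isLocallyClosed_singleton ?_
    have h1 : IsClosed ({pm} : Set (PrimeSpectrum Γ(X, U₁))) :=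
      (PrimeSpectrum.isClosed_singleton_iff_isMaximal pm).2 hm
    have := h1.isLocallyClosed.image hU₁.fromSpec.isOpenEmbedding.isInducing
      hU₁.fromSpec.isOpenEmbedding.isOpen_range.isLocallyClosed
    rwa [Set.image_singleton] at this
  obtain ⟨g, hg, hnc, p, hp⟩ := h x (hU₁U hxU₁) hxc
  haveI : IsIntegral (CohB1.ProjSpace 1 k) := Curves2.ProjLine.isIntegral k 1
  let bot₀ : Spec (CommRingCat.of k[X]) := (⟨⊥, Ideal.isPrime_bot⟩ : PrimeSpectrum k[X])
  have hgen : Chart.e₀ k bot₀ = genericPoint (CohB1.ProjSpace 1 k) :=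
    Chart.image_bot_of_isOpenImmersion (Chart.e₀ k)
  have hgx : g (genericPoint (CohB1.ProjSpace 1 k)) ⤳ x := hp ▸ (genericPoint_specializes p).map g.continuous
  have hgxne : g (genericPoint (CohB1.ProjSpace 1 k)) ≠ x := fun he => hnc ⟨x, by
    rintro _ ⟨z, rfl⟩
    have : g z ∈ closure ({x} : Set X) :=
      specializes_iff_mem_closure.1 (he ▸ (genericPoint_specializes z).map g.continuous)
    rwa [hxc.closure_eq] at this⟩
  obtain ⟨_, ⟨D, rfl⟩, hbD, hDV⟩ := PrimeSpectrum.isTopologicalBasis_basic_opens.exists_subset_of_mem_open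
    (show bot₀ ∈ (Chart.e₀ k ≫ g) ⁻¹ᵁ U₁ from by
      show (Chart.e₀ k ≫ g) bot₀ ∈ U₁
      rw [Scheme.Hom.comp_apply, hgen]
      exact Uniruled.mem_open_of_specializes hgx hxU₁) ((Chart.e₀ k ≫ g) ⁻¹ᵁ U₁).isOpen
  have hD : D ≠ 0 := fun h0 => hbD (by rw [h0]; exact Ideal.zero_mem _)
  let Lc := Localization.Away D
  let loc : Spec (CommRingCat.of Lc) ⟶ Spec (CommRingCat.of k[X]) := Spec.map (CommRingCat.ofHom (algebraMap k[X] Lc))
  let f₁ : Spec (CommRingCat.of Lc) ⟶ Spec Γ(X, U₁) :=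
    IsOpenImmersion.lift hU₁.fromSpec (loc ≫ Chart.e₀ k ≫ g) (by
      rw [hU₁.range_fromSpec]
      rintro _ ⟨z, rfl⟩
      refine hDV ?_
      exact ((PrimeSpectrum.localization_away_comap_range Lc D).le ⟨z, rfl⟩))
  have hf₁ : f₁ ≫ hU₁.fromSpec = loc ≫ Chart.e₀ k ≫ g := IsOpenImmersion.lift_fac _ _ _
  obtain ⟨ψ', hψ'⟩ : ∃ ψ : Γ(X, U₁) ⟶ CommRingCat.of Lc, Spec.map ψ = f₁ := ⟨_, Spec.map_preimage f₁⟩
  have hcomm : ∀ r : k, ψ'.hom (algebraMap k Γ(X, U₁) r) = algebraMap k Lc r := fun r => by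
    have : Spec.map (CommRingCat.ofHom (algebraMap k Γ(X, U₁)) ≫ ψ') =
        Spec.map (CommRingCat.ofHom (algebraMap k k[X]) ≫ CommRingCat.ofHom (algebraMap k[X] Lc)) := by
      rw [Spec.map_comp, Spec.map_comp, hψ', hc, ← Category.assoc, hf₁, Category.assoc, Category.assoc, hg,
        Chart.e₀_toSpec]
    exact (congrArg (fun (φ : CommRingCat.of k ⟶ CommRingCat.of Lc) => φ.hom r) (Spec.map_injective this)).trans
      (IsScalarTower.algebraMap_apply k k[X] Lc r).symm
  let ψ : Γ(X, U₁) →ₐ[k] Lc := { ψ'.hom with commutes' := hcomm }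
  haveI : IsDomain Lc := IsLocalization.isDomain_of_le_nonZeroDivisors (R := k[X]) Lc
    (M := Submonoid.powers D) (powers_le_nonZeroDivisors_of_noZeroDivisors hD)
  let pψ : PrimeSpectrum Γ(X, U₁) := ⟨RingHom.ker ψ, RingHom.ker_isPrime ψ⟩
  have hpψ : hU₁.fromSpec pψ = g (genericPoint (CohB1.ProjSpace 1 k)) := by
    let bl : Spec (CommRingCat.of Lc) := (⟨⊥, Ideal.isPrime_bot⟩ : PrimeSpectrum Lc)
    have h1 : f₁ bl = pψ := by rw [← hψ']; exact PrimeSpectrum.ext (RingHom.ker_eq_comap_bot _).symm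
    have h2 : loc bl = bot₀ := PrimeSpectrum.ext ((RingHom.ker_eq_comap_bot _).symm.trans
      ((RingHom.injective_iff_ker_eq_bot _).1
        (IsLocalization.injective (M := Submonoid.powers D) Lc (powers_le_nonZeroDivisors_of_noZeroDivisors hD))))
    rw [← h1, ← Scheme.Hom.comp_apply, hf₁, Scheme.Hom.comp_apply, Scheme.Hom.comp_apply, h2, hgen]
  have hle : RingHom.ker ψ ≤ m := by
    refine (PrimeSpectrum.le_iff_specializes pψ pm).2 ?_
    rw [← hU₁.fromSpec.isOpenEmbedding.isInducing.specializes_iff, hpψ]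
    exact hgx
  have hne : RingHom.ker ψ ≠ m := fun he => hgxne (by
    rw [← hpψ, show pψ = pm from PrimeSpectrum.ext he])
  obtain ⟨bd, hbd⟩ := IsLocalization.exist_integer_multiples_of_finite (Submonoid.powers D) (fun i => ψ (y i))
  choose G hG using hbd
  have hGspec : ∀ i, ψ (y i) * algebraMap k[X] Lc bd.1 = algebraMap k[X] Lc (G i) := fun i => by
    rw [mul_comm]; exact ((hG i).trans (Algebra.smul_def _ _)).symm
  have hbd0 : bd.1 ≠ 0 := by
    obtain ⟨e, he⟩ := bd.2
    rw [← he]; exact pow_ne_zero e hD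
  let ι : Lc →ₐ[k] RatFunc k := IsLocalization.liftAlgHom (M := Submonoid.powers D)
    (f := IsScalarTower.toAlgHom k k[X] (RatFunc k))
    (fun z => isUnit_iff_ne_zero.2 ((map_ne_zero_iff _ (RatFunc.algebraMap_injective k)).2
      (by obtain ⟨e, he⟩ := z.2; rw [← he]; exact pow_ne_zero e hD)))
  have hι : ∀ q : k[X], ι (algebraMap _ _ q) = algebraMap k[X] (RatFunc k) q := fun q => by
    rw [IsLocalization.liftAlgHom_apply, IsLocalization.lift_eq]; rfl
  have hιinj : Function.Injective ι := by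
    rw [injective_iff_map_eq_zero]
    intro z hz
    obtain ⟨⟨a, s⟩, e⟩ := IsLocalization.surj (Submonoid.powers D) z
    have h0 : algebraMap k[X] (RatFunc k) a = 0 := by rw [← hι, ← e, map_mul, hz, zero_mul]
    rw [show z = IsLocalization.mk' Lc a s from (IsLocalization.eq_mk'_iff_mul_eq).2 e,
      (RatFunc.algebraMap_injective k) (h0.trans (map_zero _).symm), IsLocalization.mk'_zero]
  have hq : ∀ i, ι (ψ (y i)) = algebraMap k[X] (RatFunc k) (G i) / algebraMap k[X] (RatFunc k) bd.1 := fun i => by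
    rw [eq_div_iff ((map_ne_zero_iff _ (RatFunc.algebraMap_injective k)).2 hbd0), ← hι, ← hι, ← map_mul, hGspec]
  have hval : ∀ P : MvPolynomial (Fin n) k, MvPolynomial.aeval
      (fun i => algebraMap k[X] (RatFunc k) (G i) / algebraMap k[X] (RatFunc k) bd.1) P =
        ι (ψ (MvPolynomial.aeval y P)) := fun P => by
    rw [← AlgHom.comp_apply ι ψ, ← AlgHom.comp_apply (ι.comp ψ), MvPolynomial.comp_aeval]
    simp only [AlgHom.comp_apply, hq]
  obtain ⟨B, _, _, _, _, DB, φB, ρ, hDB, hinjB, hDρ, hGB⟩ :=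
    Spread.exists_family_data (K₀ := K₀) y hy (S : Set (MvPolynomial (Fin n) k)) hS.symm hS₀ bd.1 G hbd0
      (fun P hP => by rw [hval, hP, map_zero, map_zero])
      (fun P₀ hP₀ => by
        rw [hval] at hP₀
        have hk : MvPolynomial.aeval y (MvPolynomial.map (algebraMap K₀ k) P₀) ∈ RingHom.ker ψ :=
          hιinj (hP₀.trans (map_zero _).symm)
        by_contra h0
        exact hmT _ ⟨P₀, rfl⟩ h0 (hle hk))
  -- two points where the curve differs
  obtain ⟨i, hi⟩ : ∃ i, ∀ c : k, G i ≠ C c * bd.1 := by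
    by_contra hall
    push Not at hall
    choose c hc using hall
    refine hne (le_antisymm hle ?_)
    have hψc : ψ.comp (MvPolynomial.aeval y) =
        (Algebra.ofId k Lc).comp (MvPolynomial.aeval (R := k) c) :=
      MvPolynomial.algHom_ext fun j => by
        simp only [AlgHom.comp_apply, MvPolynomial.aeval_X]
        refine hιinj ?_
        rw [hq, hc j, map_mul, mul_div_assoc, div_self
          ((map_ne_zero_iff _ (RatFunc.algebraMap_injective k)).2 hbd0), mul_one, Algebra.ofId_apply,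
          AlgHom.commutes, RatFunc.algebraMap_C]
        rfl
    intro r hr
    obtain ⟨P, rfl⟩ := hy r
    have h1 : ψ (MvPolynomial.aeval y P) = algebraMap k Lc (MvPolynomial.aeval c P) := AlgHom.congr_fun hψc P
    rw [RingHom.mem_ker, h1]
    by_cases hz : MvPolynomial.aeval c P = 0
    · rw [hz, map_zero]
    · exfalso
      have h2 : MvPolynomial.aeval y P - algebraMap k Γ(X, U₁) (MvPolynomial.aeval c P) ∈ RingHom.ker ψ := by
        rw [RingHom.mem_ker, map_sub, h1, AlgHom.commutes, sub_self]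
      have h3 := m.sub_mem hr (hle h2)
      rw [sub_sub_cancel] at h3
      exact hm.ne_top (Ideal.eq_top_of_isUnit_mem _ h3 ((isUnit_iff_ne_zero.2 hz).map _))
  obtain ⟨a, ha⟩ := Polynomial.exists_eval_ne_zero_of_natDegree_lt_card bd.1 hbd0
    ((Cardinal.natCast_lt_aleph0).trans_le (Cardinal.aleph0_le_mk k))
  let c := (G i).eval a / bd.1.eval a
  have hne2 : bd.1 * (G i - C c * bd.1) ≠ 0 := mul_ne_zero hbd0 (sub_ne_zero.2 (hi c))
  obtain ⟨b, hb⟩ := Polynomial.exists_eval_ne_zero_of_natDegree_lt_card _ hne2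
    ((Cardinal.natCast_lt_aleph0).trans_le (Cardinal.aleph0_le_mk k))
  rw [eval_mul, eval_sub, eval_mul, eval_C] at hb
  refine isUniruled_of_data pX hU₁ hc DB hDB φB hinjB ρ a b (hDρ ▸ ha) (hDρ ▸ left_ne_zero_of_mul hb) ?_
  intro εa εb hεa hεb he
  obtain ⟨GB, hGρ, hGeq⟩ := hGB i
  have hx : ∀ (ε : Localization.Away DB →ₐ[k] k) (t : k),
      (∀ p : B[X], ε (algebraMap _ _ p) = (p.map ρ.toRingHom).eval t) →
      ε (φB (y i)) * bd.1.eval t = (G i).eval t := fun ε t hε => by
    have := congrArg ε hGeq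
    rwa [map_mul, hε, hε, hDρ, hGρ] at this
  have h1 := hx εa a hεa
  have h2 := hx εb b hεb
  rw [show εb (φB (y i)) = εa (φB (y i)) from (AlgHom.congr_fun he (y i)).symm] at h2
  apply right_ne_zero_of_mul hb
  rw [show c = εa (φB (y i)) by simp only [c]; rw [← h1, mul_div_cancel_right₀ _ ha], ← h2, sub_self]

end Groth.Agent.Rat1.UncountableUniruled
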