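import Groth.Agent.Rat1.Chart
import Groth.Agent.Rat1.Marked
import Groth.Prelude.Def_MorSch

/-!
Through every closed point of a proper uniruled variety there is a rational curve.
-/

set_option autoImplicit false
set_option backward.isDefEq.respectTransparency false
set_option backward.defeqAttrib.useBackward true

universe u

open CategoryTheory CategoryTheory.Limits AlgebraicGeometry TopologicalSpace Polynomial

namespace Groth.Agent.Rat1.Uniruled

variable {k : Type u} [Field k] [IsAlgClosed k]

theorem mem_open_of_specializes {P : Scheme.{u}} {z z' : P} (h : z ⤳ z') {V : P.Opens} (hz : z' ∈ V) : z ∈ V :=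
  h.mem_open V.isOpen hz

theorem chart_rings_fst {C L R : Type u} [CommRing C] [Algebra k C] [Field L] [Algebra k L] [CommRing R]
    (γ : C[X] →ₐ[k] L) (ι : L[X] →+* R) (r : R →+* RatFunc L)
    (hr : ∀ p, r (ι p) = algebraMap L[X] (RatFunc L) p) (p : k[X]) :
    r (ι (Polynomial.map (γ.toRingHom.comp Polynomial.C) (Polynomial.map (algebraMap k C) p))) =
      algebraMap L[X] (RatFunc L) (Polynomial.map γ.toRingHom (Polynomial.map (algebraMap k C[X]) p)) := by
  rw [hr, Polynomial.map_map, Polynomial.map_map]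
  congr 2

theorem chart_rings_snd {C L : Type u} [CommRing C] [Field L] (γ : C[X] →+* L) (a : C[X]) :
    algebraMap L[X] (RatFunc L) (Polynomial.map γ (Polynomial.C a)) = algebraMap L (RatFunc L) (γ a) := by
  rw [Polynomial.map_C, RatFunc.algebraMap_C]
  rfl

theorem exists_curve_of_family {X : Scheme.{u}} (pX : X ⟶ Spec (CommRingCat.of k)) [IsIntegral X] [IsProper pX]
    (F : MorSch.RatFam k pX) (hdom : IsDominant F.e.hom)
    (t t' : ↥(F.e.domain : Scheme.{u})) (ht : F.toM.base t = F.toM.base t')
    (htt : F.e.hom.base t ≠ F.e.hom.base t') (x : X) (hx : IsClosed ({x} : Set X)) :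
    ∃ g : CohB1.ProjSpace 1 k ⟶ X, g ≫ pX = CohB1.ProjSpace.toSpec 1 k ∧
      (¬ ∃ z : X, Set.range g.base ⊆ {z}) ∧ x ∈ Set.range g.base := by
  haveI : IsIntegral F.M := F.isVar.1
  haveI : LocallyOfFiniteType F.m := F.isVar.2.2.1
  let q := F.m
  let qP := CohB1.ProjSpace.toSpec 1 k
  let D := F.e.domain
  let e : (D : Scheme.{u}) ⟶ X := F.e.hom
  have hec : e ≫ pX = D.ι ≫ pullback.fst qP q ≫ qP := F.comm
  -- the affine neighbourhood of the point
  obtain ⟨U, hU, hxU, -⟩ := exists_isAffineOpen_mem_and_subset (U := (⊤ : X.Opens)) (x := x) trivial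
  letI : X.Over (Spec (CommRingCat.of k)) := ⟨pX⟩
  letI : Algebra k Γ(X, U) := (Var76.BertiniScheme.const (k := k) X U).toAlgebra
  have hc : Spec.map (CommRingCat.ofHom (algebraMap k Γ(X, U))) = hU.fromSpec ≫ pX :=
    Var76.BertiniScheme.SpecMap_const hU
  -- the chart of the product
  obtain ⟨M₀, hM₀, hm₀, -⟩ :=
    exists_isAffineOpen_mem_and_subset (U := (⊤ : F.M.Opens)) (x := genericPoint F.M) trivial
  haveI : Nonempty M₀ := ⟨⟨_, hm₀⟩⟩
  letI : F.M.Over (Spec (CommRingCat.of k)) := ⟨q⟩
  let C := Γ(F.M, M₀)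
  letI : Algebra k C := (Var76.BertiniScheme.const (k := k) F.M M₀).toAlgebra
  haveI : IsDomain C := inferInstance
  have hi : hM₀.fromSpec ≫ q = Spec.map (CommRingCat.ofHom (algebraMap k C)) :=
    (Var76.BertiniScheme.SpecMap_const (k := k) hM₀).symm
  obtain ⟨j, hjo, hjf, hjs, hjq⟩ := Chart.exists_chart q hM₀.fromSpec hi
  haveI := hjo
  haveI : IrreducibleSpace ↥(pullback qP q) := Chart.irreducibleSpace_prod q
  let ξ := genericPoint ↥(pullback qP q)
  have hξ : ξ ∈ D := ((genericPoint_spec _).mem_open_set_iff D.2).2 ⟨t.1, trivial, t.2⟩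
  let ξD : ↥(D : Scheme.{u}) := ⟨ξ, hξ⟩
  have heξ : e ξD = genericPoint X := by
    have hsub : Set.range e ⊆ closure {e ξD} := by
      rintro _ ⟨d, rfl⟩
      refine specializes_iff_mem_closure.1 (Specializes.map ?_ e.continuous)
      exact (subtype_specializes_iff ξD d).2 (genericPoint_specializes d.1)
    have : closure ({e ξD} : Set X) = Set.univ := by
      refine Set.eq_univ_of_univ_subset ?_
      rw [← (hdom.denseRange : DenseRange e).closure_range]
      exact closure_minimal hsub isClosed_closure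
    exact (show IsGenericPoint (e ξD) Set.univ from this).eq (genericPoint_spec X)
  -- the big field
  let L := AlgebraicClosure (FractionRing C[X])
  let γ : C[X] →ₐ[k] L :=
    (IsScalarTower.toAlgHom k (FractionRing C[X]) L).comp (IsScalarTower.toAlgHom k C[X] (FractionRing C[X]))
  have hγ : Function.Injective γ :=
    (algebraMap (FractionRing C[X]) L).injective.comp (IsFractionRing.injective C[X] (FractionRing C[X]))
  let τ : L := γ Polynomial.X
  let pτ : Ideal L[X] := RingHom.ker (evalRingHom τ)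
  haveI : pτ.IsPrime := RingHom.ker_isPrime _
  let R := Localization.AtPrime pτ
  let evR : R →ₐ[k] L := IsLocalization.liftAlgHom (M := pτ.primeCompl)
    (f := (Polynomial.aeval τ : L[X] →ₐ[L] L).restrictScalars k)
    (fun b => isUnit_iff_ne_zero.2 fun h => b.2 (by simpa [pτ, RingHom.mem_ker] using h))
  have hevR : ∀ p : L[X], evR (algebraMap L[X] R p) = p.eval τ := fun p => by
    rw [IsLocalization.liftAlgHom_apply, IsLocalization.lift_eq]
    exact Polynomial.coe_aeval_eq_eval τ ▸ rfl
  let toRF : R →ₐ[k] RatFunc L := IsLocalization.liftAlgHom (M := pτ.primeCompl)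
    (f := IsScalarTower.toAlgHom k L[X] (RatFunc L))
    (fun b => isUnit_iff_ne_zero.2 ((map_ne_zero_iff _ (RatFunc.algebraMap_injective L)).2
      fun h => b.2 (by simp [pτ, h])))
  have htoRF : ∀ p : L[X], toRF (algebraMap L[X] R p) = algebraMap L[X] (RatFunc L) p := fun p => by
    rw [IsLocalization.liftAlgHom_apply, IsLocalization.lift_eq]
    rfl
  let γC : C →+* L := γ.toRingHom.comp Polynomial.C
  let σR : C[X] →+* R := (algebraMap L[X] R).comp (Polynomial.mapRingHom γC)
  have hσev : evR.toRingHom.comp σR = γ.toRingHom := by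
    refine Polynomial.ringHom_ext (fun a => ?_) ?_
    · simp [σR, hevR, γC]
    · simp [σR, hevR, τ]
  let pR : Spec (CommRingCat.of R) ⟶ pullback qP q := Spec.map (CommRingCat.ofHom σR) ≫ j
  let pt : Spec (CommRingCat.of L) := ⟨⊥, Ideal.isPrime_bot⟩
  let zc : Spec (CommRingCat.of R) := Spec.map (CommRingCat.ofHom evR.toRingHom) pt
  have hpτ : Spec.map (CommRingCat.ofHom evR.toRingHom) ≫ pR = Spec.map (CommRingCat.ofHom γ.toRingHom) ≫ j := by
    simp only [pR]
    rw [← Category.assoc, ← Spec.map_comp, ← CommRingCat.ofHom_comp, hσev]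
  have hzc : pR zc = ξ := by
    show pR (Spec.map (CommRingCat.ofHom evR.toRingHom) pt) = ξ
    rw [← Scheme.Hom.comp_apply, hpτ]
    exact Chart.image_of_injective j γ.toRingHom hγ pt
  have hspec : ∀ z : Spec (CommRingCat.of R), z ⤳ zc := fun z => by
    refine (PrimeSpectrum.le_iff_specializes _ _).1 fun r hr => ?_
    show evR r = 0
    by_contra hne
    obtain ⟨⟨a, b⟩, hab⟩ := IsLocalization.surj pτ.primeCompl r
    have ha : a ∉ pτ := fun ha => hne (by
      have h := congrArg evR hab
      rw [map_mul, hevR, hevR, show a.eval τ = 0 from ha] at h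
      exact (mul_eq_zero.1 h).resolve_right b.2)
    have hu : IsUnit (r * algebraMap L[X] R b.1) := by
      rw [hab]; exact IsLocalization.map_units R (⟨a, ha⟩ : pτ.primeCompl)
    exact z.isPrime.ne_top (Ideal.eq_top_of_isUnit_mem _ hr (isUnit_of_mul_isUnit_left hu))
  let lD : Spec (CommRingCat.of R) ⟶ D := IsOpenImmersion.lift D.ι pR (by
    rw [Scheme.Opens.range_ι]
    rintro _ ⟨z, rfl⟩
    exact mem_open_of_specializes ((hspec z).map pR.continuous) (hzc ▸ hξ))
  have hlD : lD ≫ D.ι = pR := IsOpenImmersion.lift_fac _ _ _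
  have hlDc : lD zc = ξD := by
    apply Subtype.ext
    show D.ι (lD zc) = ξ
    rw [← Scheme.Hom.comp_apply, hlD, hzc]
  have hηU : genericPoint X ∈ U := mem_open_of_specializes (genericPoint_specializes x) hxU
  have hfz : ∀ z, (lD ≫ e) z ∈ U := fun z => by
    refine mem_open_of_specializes ((hspec z).map (lD ≫ e).continuous) ?_
    rw [Scheme.Hom.comp_apply, hlDc, heξ]
    exact hηU
  let fU : Spec (CommRingCat.of R) ⟶ Spec Γ(X, U) := IsOpenImmersion.lift hU.fromSpec (lD ≫ e) (by
    rw [hU.range_fromSpec]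
    rintro _ ⟨z, rfl⟩
    exact hfz z)
  have hfU : fU ≫ hU.fromSpec = lD ≫ e := IsOpenImmersion.lift_fac _ _ _
  obtain ⟨ψ, hψ⟩ : ∃ ψ : Γ(X, U) ⟶ CommRingCat.of R, Spec.map ψ = fU := ⟨_, Spec.map_preimage fU⟩
  have hcomm : ∀ a : k, ψ.hom (algebraMap k Γ(X, U) a) = algebraMap k R a := fun a => by
    have : Spec.map (CommRingCat.ofHom (algebraMap k Γ(X, U)) ≫ ψ) =
        Spec.map (CommRingCat.ofHom (algebraMap k C[X]) ≫ CommRingCat.ofHom σR) := by
      rw [Spec.map_comp, Spec.map_comp, hψ, hc, ← Category.assoc, hfU, Category.assoc, hec,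
        ← Category.assoc lD, hlD, ← hjq, pullback.condition]
      simp only [pR, Category.assoc]
      rfl
    have h2 := congrArg (fun (m : CommRingCat.of k ⟶ CommRingCat.of R) => m.hom a) (Spec.map_injective this)
    refine h2.trans ?_
    show σR (algebraMap k C[X] a) = _
    rw [IsScalarTower.algebraMap_apply k L[X] R, IsScalarTower.algebraMap_apply k C C[X],
      IsScalarTower.algebraMap_apply k L L[X]]
    simp only [σR, RingHom.comp_apply, Polynomial.algebraMap_eq, coe_mapRingHom, map_C, γC]
    congr 2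
  let φA : Γ(X, U) →ₐ[k] R := { ψ.hom with commutes' := hcomm }
  let φτ := evR.comp φA
  have hinj : Function.Injective φτ := by
    rw [RingHom.injective_iff_ker_eq_bot]
    haveI : IsDomain Γ(X, U) := by
      haveI : Nonempty U := ⟨⟨x, hxU⟩⟩
      infer_instance
    have h1 : hU.fromSpec (fU zc) = genericPoint X := by
      rw [← Scheme.Hom.comp_apply, hfU, Scheme.Hom.comp_apply, hlDc, heξ]
    have h2 : fU zc = (⟨⊥, Ideal.isPrime_bot⟩ : PrimeSpectrum Γ(X, U)) :=
      hU.fromSpec.isOpenEmbedding.injective (h1.trans (Chart.image_bot_of_isOpenImmersion hU.fromSpec).symm)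
    rw [← hψ] at h2
    have h3 := congrArg PrimeSpectrum.asIdeal h2
    refine Eq.trans ?_ h3
    exact RingHom.ker_eq_comap_bot _
  refine Marked.exists_curve pX hU hc x hxU hx φτ hinj (toRF.comp φA) τ (fun {n} y => ?_) ?_
  · obtain ⟨b, hb⟩ := IsLocalization.exist_integer_multiples_of_finite pτ.primeCompl (fun i => φA (y i))
    choose a ha using hb
    refine ⟨b.1, a, fun h => b.2 h, fun i => ?_⟩
    have hab : algebraMap L[X] R (a i) = algebraMap L[X] R b.1 * φA (y i) := (ha i).trans (Algebra.smul_def _ _)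
    refine ⟨?_, ?_⟩
    · have := congrArg evR hab
      rw [map_mul, hevR, hevR] at this
      rw [this, mul_comm]
      rfl
    · have := congrArg toRF hab
      rw [map_mul, htoRF, htoRF] at this
      rw [eq_div_iff ((map_ne_zero_iff _ (RatFunc.algebraMap_injective L)).2 fun h => b.2 (by simp [pτ, h])),
        AlgHom.comp_apply, this, mul_comm]
  -- the family does not contract the curve
  by_contra hall
  push Not at hall
  obtain ⟨j₂, hj₂o, hj₂f, hj₂s, -⟩ := Chart.exists_chart (pullback.snd qP q ≫ q) j hjq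
  haveI := hj₂o
  haveI : IrreducibleSpace ↥(pullback qP (pullback.snd qP q ≫ q)) := Chart.irreducibleSpace_prod _
  let toM := F.toM
  let cst : L →+* RatFunc L := algebraMap L (RatFunc L)
  let aU : Spec (CommRingCat.of (RatFunc L)) ⟶ D := Spec.map (CommRingCat.ofHom toRF.toRingHom) ≫ lD
  let aT : Spec (CommRingCat.of (RatFunc L)) ⟶ D :=
    Spec.map (CommRingCat.ofHom cst) ≫ Spec.map (CommRingCat.ofHom evR.toRingHom) ≫ lD
  have hcst : toRF.toRingHom.comp (σR.comp Polynomial.C) = cst.comp (evR.toRingHom.comp (σR.comp Polynomial.C)) :=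
    RingHom.ext fun a => by
      simp [σR, cst, htoRF, hevR, RatFunc.algebraMap_C]
  have htoM : aU ≫ toM = aT ≫ toM := by
    have h : lD ≫ toM = Spec.map (CommRingCat.ofHom (σR.comp Polynomial.C)) ≫ hM₀.fromSpec := by
      show lD ≫ D.ι ≫ pullback.snd qP q = _
      rw [← Category.assoc, hlD]
      simp only [pR]
      rw [Category.assoc, hjs, ← Category.assoc, ← Spec.map_comp]
      rfl
    simp only [aU, aT, Category.assoc, h, ← Spec.map_comp_assoc, ← CommRingCat.ofHom_comp]
    rw [hcst]
    rfl
  let w := pullback.lift aU aT htoM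
  have he : aU ≫ e = aT ≫ e := by
    simp only [aU, aT, Category.assoc, ← hfU, ← hψ, ← Spec.map_comp_assoc]
    congr 2
    ext z
    exact hall z
  -- the fibre square is open in an irreducible scheme
  let m₂ : pullback toM toM ⟶ pullback (pullback.snd qP q) (pullback.snd qP q) :=
    pullback.map toM toM (pullback.snd qP q) (pullback.snd qP q) D.ι D.ι (𝟙 _) (Category.comp_id _) (Category.comp_id _)
  haveI : IsOpenImmersion m₂ := MorphismProperty.pullbackMap (P := @IsOpenImmersion) (i₁ := D.ι) (i₂ := D.ι)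
    inferInstance inferInstance rfl rfl
  have sq := (IsPullback.of_hasPullback (pullback.snd qP q) (pullback.snd qP q)).flip.paste_vert
    (IsPullback.of_hasPullback qP q).flip
  let Θ : pullback toM toM ⟶ pullback qP (pullback.snd qP q ≫ q) := m₂ ≫ sq.flip.isoPullback.hom
  have hΘ : IsOpenImmersion Θ := inferInstance
  let δ : C[X][X] →+* RatFunc L := (algebraMap L[X] (RatFunc L)).comp (Polynomial.mapRingHom γ.toRingHom)
  have hδ : Function.Injective δ :=
    (RatFunc.algebraMap_injective L).comp (Polynomial.map_injective _ hγ)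
  have hwΘ : w ≫ Θ = Spec.map (CommRingCat.ofHom δ) ≫ j₂ := by
    apply pullback.hom_ext
    · simp only [Category.assoc]
      rw [hj₂f, show Θ ≫ pullback.fst _ _ =
          pullback.fst toM toM ≫ D.ι ≫ pullback.fst qP q by
        simp only [Θ, Category.assoc, IsPullback.isoPullback_hom_fst]
        simp [m₂]]
      rw [← Category.assoc w, pullback.lift_fst]
      simp only [aU, Category.assoc]
      rw [← Category.assoc lD, hlD]
      simp only [pR, Category.assoc]
      erw [hjf]
      simp only [← Spec.map_comp_assoc, ← CommRingCat.ofHom_comp]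
      congr 3
      exact RingHom.ext fun p => chart_rings_fst γ (algebraMap L[X] R) toRF.toRingHom htoRF p
    · simp only [Category.assoc]
      rw [hj₂s, show Θ ≫ pullback.snd _ _ = pullback.snd toM toM ≫ D.ι by
        simp only [Θ, Category.assoc, IsPullback.isoPullback_hom_snd]
        simp [m₂]]
      rw [← Category.assoc w, pullback.lift_snd]
      simp only [aT, Category.assoc, hlD, ← hpτ]
      simp only [hpτ, ← Spec.map_comp_assoc, ← CommRingCat.ofHom_comp]
      congr 3
      exact RingHom.ext fun a => (chart_rings_snd γ.toRingHom a).symm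
  let ptu : Spec (CommRingCat.of (RatFunc L)) := ⟨⊥, Ideal.isPrime_bot⟩
  have hwgen : Θ (w ptu) = genericPoint ↥(pullback qP (pullback.snd qP q ≫ q)) := by
    rw [← Scheme.Hom.comp_apply, hwΘ]
    exact Chart.image_of_injective j₂ δ hδ ptu
  obtain ⟨z, hz₁, hz₂⟩ := Scheme.Pullback.exists_preimage_pullback (f := toM) (g := toM) t t' ht
  have hN : IsOpen (F.ev₂ ⁻¹' (Set.range (pullback.diagonal pX))ᶜ) :=
    (pullback.diagonal pX).isClosedMap.isClosed_range.isOpen_compl.preimage F.ev₂.continuous
  have hzN : F.ev₂ z ∉ Set.range (pullback.diagonal pX) := by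
    rintro ⟨v, hv⟩
    apply htt
    have e1 := congrArg (fun a => pullback.fst pX pX a) hv
    have e2 := congrArg (fun a => pullback.snd pX pX a) hv
    simp only [← Scheme.Hom.comp_apply, pullback.diagonal_fst, pullback.diagonal_snd,
      MorSch.RatFam.ev₂_fst, MorSch.RatFam.ev₂_snd] at e1 e2
    simp only [Scheme.Hom.comp_apply] at e1 e2
    have h : F.e.hom (pullback.fst toM toM z) = F.e.hom (pullback.snd toM toM z) := e1.symm.trans e2
    rw [hz₁, hz₂] at h
    exact h
  have hgen : genericPoint ↥(pullback qP (pullback.snd qP q ≫ q)) ∈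
      Θ '' (F.ev₂ ⁻¹' (Set.range (pullback.diagonal pX))ᶜ) :=
    ((genericPoint_spec _).mem_open_set_iff (Θ.isOpenEmbedding.isOpenMap _ hN)).2 ⟨Θ z, trivial, z, hzN, rfl⟩
  obtain ⟨w', hw', hw'e⟩ := hgen
  obtain rfl : w' = w ptu := Θ.isOpenEmbedding.injective (hw'e.trans hwgen.symm)
  have hdiag : (aU ≫ e) ≫ pullback.diagonal pX = w ≫ F.ev₂ := by
    apply pullback.hom_ext
    · simp [w]
      exact (pullback.lift_fst_assoc _ _ _ _).symm
    · simp [w, he]
      exact (pullback.lift_snd_assoc _ _ _ _).symm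
  refine hw' ⟨(aU ≫ e) ptu, ?_⟩
  rw [← Scheme.Hom.comp_apply, ← Scheme.Hom.comp_apply, hdiag]

end Groth.Agent.Rat1.Uniruled
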